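import Cfsg.Agent.Len.SV
import Cfsg.Agent.Gold.Defs
import Cfsg.Agent.Solv.NilpotentMaximal
import Cfsg.Agent.Block.OutSolv
import Cfsg.Agent.Class.Asch.Factor
import Mathlib.NumberTheory.ArithmeticFunction.Misc

/-! Chains of subgroups. -/

set_option autoImplicit false

namespace Cfsg.Lib.Len

open Subgroup Cfsg.Lib.Trans Cfsg.Lib.Local Cfsg.Lib.Gold
open scoped commutatorElement ArithmeticFunction.Omega

universe u

variable {G : Type*} [Group G] {A B C : Subgroup G} {m n : ℕ}

/-- There is a chain of length `n` from `A` up to a subgroup of `B`. -/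
def Ch : ℕ → Subgroup G → Subgroup G → Prop
  | 0, A, B => A ≤ B
  | n + 1, A, B => ∃ C, A < C ∧ Ch n C B

theorem Ch.le (h : Ch n A B) : A ≤ B := by
  induction n generalizing A with
  | zero => exact h
  | succ n ih => obtain ⟨C, h1, h2⟩ := h; exact h1.le.trans (ih h2)

theorem Ch.mono_left (h : Ch n B C) (h1 : A ≤ B) : Ch n A C := by
  cases n with
  | zero => exact h1.trans h
  | succ n => obtain ⟨D, h2, h3⟩ := h; exact ⟨D, h1.trans_lt h2, h3⟩

theorem Ch.trans (h1 : Ch m A B) (h2 : Ch n B C) : Ch (n + m) A C := by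
  induction m generalizing A with
  | zero => exact h2.mono_left h1
  | succ m ih => obtain ⟨D, h3, h4⟩ := h1; exact ⟨D, h3, ih h4⟩

theorem Ch.mono_right (h : Ch n A B) (h1 : B ≤ C) : Ch n A C := by
  simpa using h.trans (n := 0) h1

theorem ch_one (h : A < B) : Ch 1 A B := ⟨B, h, le_rfl⟩

theorem Ch.step (h : Ch n A B) (h1 : B < C) : Ch (n + 1) A C := by
  rw [add_comm]; exact h.trans (ch_one h1)

theorem Ch.anti (h : Ch n A B) (h1 : m ≤ n) : Ch m A B := by
  induction m generalizing A n with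
  | zero => exact h.le
  | succ m ih =>
    obtain ⟨n, rfl⟩ : ∃ k, n = k + 1 := ⟨n - 1, by omega⟩
    obtain ⟨D, h2, h3⟩ := h
    exact ⟨D, h2, ih h3 (by omega)⟩

theorem Ch.map {G' : Type*} [Group G'] (h : Ch n A B) {f : G →* G'} (hf : Function.Injective f) :
    Ch n (A.map f) (B.map f) := by
  induction n generalizing A with
  | zero => exact map_mono h
  | succ n ih =>
    obtain ⟨D, h2, h3⟩ := h
    exact ⟨D.map f, (map_lt_map_iff_of_injective hf).2 h2, ih h3⟩

theorem Ch.comap {G' : Type*} [Group G'] (h : Ch n A B) {f : G' →* G}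
    (hf : Function.Surjective f) : Ch n (A.comap f) (B.comap f) := by
  induction n generalizing A with
  | zero => exact comap_mono h
  | succ n ih =>
    obtain ⟨D, h2, h3⟩ := h
    exact ⟨D.comap f, (comap_lt_comap_of_surjective hf).2 h2, ih h3⟩

theorem Ch.of_sub {H : Subgroup G} (h : Ch n (⊥ : Subgroup H) ⊤) : Ch n ⊥ H := by
  simpa [← MonoidHom.range_eq_map] using h.map H.subtype_injective

theorem Ch.congr {G' : Type*} [Group G'] (e : G ≃* G') (h : Ch n (⊥ : Subgroup G') ⊤) :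
    Ch n (⊥ : Subgroup G) ⊤ := by
  simpa using (h.map (f := e.symm.toMonoidHom) e.symm.injective).mono_right le_top

theorem Ch.of_quot {X : Type*} [Group X] (f : B →* X) (hf : Function.Surjective f)
    (hA : A.subgroupOf B ≤ f.ker) (hAB : A ≤ B) (h : Ch n (⊥ : Subgroup X) ⊤) : Ch n A B := by
  have h1 := ((h.comap hf).mono_left hA).map B.subtype_injective
  rwa [map_subgroupOf_eq_of_le hAB, comap_top, ← MonoidHom.range_eq_map, range_subtype] at h1

theorem Ch.exists_strictAnti (h : Ch n A B) :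
    ∃ c : Fin (n + 1) → Subgroup G, StrictAnti c ∧ A ≤ c (Fin.last n) := by
  induction n generalizing A with
  | zero => exact ⟨fun _ => A, fun a b hab => absurd hab (by omega), le_rfl⟩
  | succ n ih =>
    obtain ⟨D, h2, h3⟩ := h
    obtain ⟨c, h4, h5⟩ := ih h3
    refine ⟨Fin.snoc c A, ?_, by simp⟩
    rw [Fin.strictAnti_iff_succ_lt]
    intro i
    refine Fin.lastCases ?_ (fun j => ?_) i
    · simpa [Fin.succ_last] using h2.trans_le h5
    · rw [Fin.succ_castSucc, Fin.snoc_castSucc, Fin.snoc_castSucc]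
      exact h4 Fin.castSucc_lt_succ

theorem not_ch_of (h : ∀ c : Fin (n + 1) → Subgroup G, ¬ StrictAnti c) : ¬ Ch n A B := fun h1 =>
  let ⟨c, h2, _⟩ := h1.exists_strictAnti; h c h2

theorem ch_aux (k : ℕ) : ∀ (X : Type u) [Group X] [Finite X], Nat.card X = k →
    Group.IsSolvable X → Ch (Ω (Nat.card X)) (⊥ : Subgroup X) ⊤ := by
  induction k using Nat.strong_induction_on with
  | _ k ih =>
  intro X _ _ hk hX
  rcases subsingleton_or_nontrivial X with h | h
  · rw [Nat.card_of_subsingleton (1 : X)]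
    rw [ArithmeticFunction.cardFactors_one]
    exact (le_top : (⊥ : Subgroup X) ≤ ⊤)
  obtain ⟨M, hM, h1⟩ := (eq_top_or_exists_le_coatom (commutator X)).resolve_left
    (Group.IsSolvable.commutator_lt_top_of_nontrivial X).ne
  have : M.Normal := Subgroup.Normal.of_commutator_le X h1
  have h2 : IsMulCommutative (X ⧸ M) := Subgroup.Normal.quotient_commutative_iff_commutator_le.2 h1
  have h3 : IsSimpleGroup (X ⧸ M) := by
    have : Nontrivial (X ⧸ M) := QuotientGroup.nontrivial_iff.2 hM.1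
    refine ⟨fun N _ => ?_⟩
    have h4 : M ≤ N.comap (QuotientGroup.mk' M) := fun x hx => by
      rw [mem_comap, QuotientGroup.mk'_apply, (QuotientGroup.eq_one_iff x).2 hx]; exact one_mem _
    rcases hM.le_iff.1 h4 with h5 | h5
    · exact Or.inr (comap_injective (QuotientGroup.mk'_surjective M) (by rw [h5, comap_top]))
    · refine Or.inl (comap_injective (QuotientGroup.mk'_surjective M) ?_)
      rw [h5, MonoidHom.comap_bot, QuotientGroup.ker_mk']
  have h4 : M.index.Prime := by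
    let _ : CommGroup (X ⧸ M) := { (inferInstance : Group (X ⧸ M)) with mul_comm := h2.1.1 }
    exact IsSimpleGroup.prime_card (α := X ⧸ M)
  have h5 := ih _ (by rw [← hk, ← card_top (G := X)]; exact card_lt_of_lt hM.lt_top) M rfl
    inferInstance
  rw [← M.card_mul_index, ArithmeticFunction.cardFactors_mul Nat.card_pos.ne' h4.ne_zero,
    ArithmeticFunction.cardFactors_apply_prime h4]
  exact h5.of_sub.step hM.lt_top

theorem omega_le_of_dvd {a b : ℕ} (h : a ∣ b) (hb : b ≠ 0) : Ω a ≤ Ω b := by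
  obtain ⟨c, rfl⟩ := h
  rw [ArithmeticFunction.cardFactors_mul (left_ne_zero_of_mul hb) (right_ne_zero_of_mul hb)]
  omega

theorem eq_of_omega_le {a b : ℕ} (h : a ∣ b) (hb : b ≠ 0) (h1 : Ω b ≤ Ω a) : b = a := by
  obtain ⟨c, rfl⟩ := h
  rw [ArithmeticFunction.cardFactors_mul (left_ne_zero_of_mul hb) (right_ne_zero_of_mul hb)] at h1
  rcases ArithmeticFunction.cardFactors_eq_zero_iff_eq_zero_or_one.1 (show Ω c = 0 by omega)
    with h | h
  · exact absurd h (right_ne_zero_of_mul hb)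
  · rw [h, mul_one]

variable [Finite G]

theorem ch_solv (h : Group.IsSolvable A) : Ch (Ω (Nat.card A)) ⊥ A := (ch_aux _ A rfl h).of_sub

theorem ch_of_dvd (h : Group.IsSolvable A) {a : ℕ} (ha : a ∣ Nat.card A) (hn : Ω a = n) :
    Ch n ⊥ A := (ch_solv h).anti (hn ▸ omega_le_of_dvd ha Nat.card_pos.ne')

theorem ch_pgroup {p : ℕ} [hp : Fact p.Prime] (h : IsPGroup p A) (hn : p ^ n ∣ Nat.card A) :
    Ch n ⊥ A := ch_of_dvd (Cor.isSolvable_of_isPGroup h) hn
      (ArithmeticFunction.cardFactors_apply_prime_pow hp.out)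

theorem ch_of_pow_dvd {p : ℕ} [hp : Fact p.Prime] (hn : p ^ n ∣ Nat.card A) : Ch n ⊥ A := by
  obtain ⟨T, hT⟩ := exists_isSylowIn (p := p) A
  refine (ch_pgroup hT.isPGroup ?_).mono_right hT.le
  rw [hT.card_eq]
  exact pow_dvd_pow _ ((hp.out.pow_dvd_iff_le_factorization Nat.card_pos.ne').1 hn)

/-- A chain through a solvable section. -/
theorem ch_rel (hAB : A ≤ B) (hn : B ≤ Ns A) (h : Group.IsSolvable B ∨ ⁅B, B⁆ ≤ A) :
    Ch (Ω (A.relIndex B)) A B := by
  have : (A.subgroupOf B).Normal := (normal_subgroupOf_iff_le_normalizer hAB).2 hn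
  refine Ch.of_quot (QuotientGroup.mk' (A.subgroupOf B)) (QuotientGroup.mk'_surjective _)
    (by rw [QuotientGroup.ker_mk']) hAB (ch_aux _ _ rfl ?_)
  rcases h with h | h
  · infer_instance
  · have := isMulCommutative_quotient_of_commutator_mem (H := B) (K := A)
      fun x hx y hy => h (commutator_mem_commutator hx hy)
    exact Group.isSolvable_of_comm this.1.1

theorem comm_central_of_card_dvd {T : Type*} [Group T] [Finite T] (h : Nat.card T ∣ 8)
    (a b c : T) : Commute ⁅a, b⁆ c := by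
  have hT : IsPGroup 2 T := IsPGroup.of_card_dvd_pow (n := 3) h
  rcases subsingleton_or_nontrivial T with h0 | h0
  · exact Subsingleton.elim _ _
  have h1 : IsMulCommutative (T ⧸ center T) := by
    have h2 : Nat.card (center T) ≠ 1 := Finite.one_lt_card_iff_nontrivial.2 hT.center_nontrivial |>.ne'
    have h3 := (center T).card_mul_index
    obtain ⟨i, hi⟩ := (hT.to_subgroup (center T)).exists_card_eq
    obtain ⟨j, hj⟩ := (hT.to_quotient (center T)).exists_card_eq
    have h4 : 2 ^ (i + j) ∣ 2 ^ 3 := by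
      rw [pow_add, ← hi, ← hj]; exact h3.dvd.trans h
    have h5 := (Nat.pow_dvd_pow_iff_le_right (by norm_num)).1 h4
    have h6 : i ≠ 0 := by rintro rfl; exact h2 hi
    have h7 : j = 0 ∨ j = 1 ∨ j = 2 := by omega
    rcases h7 with rfl | rfl | rfl
    · have := (Nat.card_eq_one_iff_unique.1 hj).1
      exact ⟨⟨fun _ _ => Subsingleton.elim _ _⟩⟩
    · have := isCyclic_of_prime_card (p := 2) hj
      infer_instance
    · exact IsPGroup.isMulCommutative_of_card_eq_prime_sq hj
  have h2 : ⁅a, b⁆ ∈ center T := by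
    rw [← QuotientGroup.eq_one_iff]
    show QuotientGroup.mk' (center T) ⁅a, b⁆ = 1
    rw [map_commutatorElement, commutatorElement_eq_one_iff_mul_comm]
    exact h1.1.1 _ _
  exact (mem_center_iff.1 h2 c).symm

/-- A nilpotent subgroup of class at most two of a non-solvable group is not maximal. -/
theorem ch_two_of_class {p : ℕ} [Fact p.Prime] {T : Subgroup G} (hG : ¬ Group.IsSolvable G)
    (hT : IsPGroup p T) (h : ∀ a ∈ T, ∀ b ∈ T, ∀ c ∈ T, Commute ⁅a, b⁆ c) : Ch 2 T ⊤ := by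
  have h1 : T ≠ ⊤ := by
    rintro rfl
    exact hG (Cor.isSolvable_of_isPGroup (hT.of_equiv topEquiv))
  obtain ⟨M, hM, h2⟩ := (eq_top_or_exists_le_coatom T).resolve_left h1
  refine (ch_one (lt_of_le_of_ne h2 ?_)).step hM.lt_top
  rintro rfl
  exact hG (Solv.NilpMax.isSolvable_of_classTwo hM hT.isNilpotent
    fun q _ a ha b hb c hc _ _ _ => h a ha b hb c hc)

theorem ch_top_of_dvd (hG : ¬ Group.IsSolvable G) (hn : n ≤ 3) (h : 2 ^ n ∣ Nat.card G) :
    Ch (n + 2) (⊥ : Subgroup G) ⊤ := by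
  obtain ⟨T, hT⟩ := exists_isSylowIn (p := 2) (⊤ : Subgroup G)
  obtain ⟨k, hk⟩ := hT.isPGroup.exists_card_eq
  have h1 := ch_pgroup hT.isPGroup hk.symm.dvd
  have h2 : n ≤ k := by
    rw [hT.card_eq, card_top] at hk
    rw [← Nat.pow_right_injective le_rfl hk]
    exact (Nat.prime_two.pow_dvd_iff_le_factorization Nat.card_pos.ne').1 h
  have h3 : T ≠ ⊤ := by
    rintro rfl
    exact hG (Cor.isSolvable_of_isPGroup (hT.isPGroup.of_equiv topEquiv))
  by_cases h4 : k ≤ 3
  · refine (h1.trans (ch_two_of_class hG hT.isPGroup fun a ha b hb c hc => ?_)).anti (by omega)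
    have := comm_central_of_card_dvd (T := T) (by rw [hk]; exact pow_dvd_pow 2 h4)
      ⟨a, ha⟩ ⟨b, hb⟩ ⟨c, hc⟩
    exact congrArg Subtype.val this
  · exact (h1.step h3.lt_top).anti (by omega)

theorem four_dvd_card (hG : ¬ Group.IsSolvable G) : 2 ^ 2 ∣ Nat.card G := by
  obtain ⟨T, hT⟩ := exists_isSylowIn (p := 2) (⊤ : Subgroup G)
  obtain ⟨k, hk⟩ := hT.isPGroup.exists_card_eq
  by_cases h : k ≤ 1
  · have h1 : IsCyclic T := by
      interval_cases k
      · have := (Nat.card_eq_one_iff_unique.1 hk).1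
        infer_instance
      · exact isCyclic_of_prime_card (p := 2) hk
    have := isSolvable_of_isSylowIn_cyclic hT h1
    exact absurd (Group.isSolvable_of_surjective (f := (topEquiv (G := G)).toMonoidHom)
      (MulEquiv.surjective _)) hG
  · exact ((pow_dvd_pow 2 (by omega)).trans hk.symm.dvd).trans (card_subgroup_dvd_card T)

omit [Finite G] in
theorem not_solv_quot {L : Subgroup G} (hL : ⁅L, L⁆ = L) (h1 : L ≤ B) (h2 : ¬ L ≤ A)
    [(A.subgroupOf B).Normal] : ¬ Group.IsSolvable (B ⧸ A.subgroupOf B) := fun h => by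
  have h3 : ⁅L.subgroupOf B, L.subgroupOf B⁆ = L.subgroupOf B :=
    map_injective B.subtype_injective (by rw [map_commutator, map_subgroupOf_eq_of_le h1, hL])
  have h4 := Class.Asch.eq_bot_of_perfect_of_le (X := ⊤)
    (M := (L.subgroupOf B).map (QuotientGroup.mk' (A.subgroupOf B))) inferInstance le_top
    (by rw [← map_commutator, h3])
  rw [Subgroup.map_eq_bot_iff, QuotientGroup.ker_mk'] at h4
  exact h2 fun x hx => h4 (show (⟨x, h1 hx⟩ : B) ∈ L.subgroupOf B from hx)

/-- A chain through a non-solvable section. -/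
theorem ch_rel_perf {L : Subgroup G} (hAB : A ≤ B) (hn : B ≤ Ns A) (hL : ⁅L, L⁆ = L) (h1 : L ≤ B)
    (h2 : ¬ L ≤ A) : Ch 4 A B ∧ (8 ∣ A.relIndex B → Ch 5 A B) := by
  have : (A.subgroupOf B).Normal := (normal_subgroupOf_iff_le_normalizer hAB).2 hn
  have h3 := not_solv_quot hL h1 h2
  have h4 : ∀ n, Ch n (⊥ : Subgroup (B ⧸ A.subgroupOf B)) ⊤ → Ch n A B := fun n =>
    Ch.of_quot (QuotientGroup.mk' (A.subgroupOf B)) (QuotientGroup.mk'_surjective _)
      (by rw [QuotientGroup.ker_mk']) hAB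
  exact ⟨h4 _ (ch_top_of_dvd h3 (by norm_num) (four_dvd_card h3)),
    fun h => h4 _ (ch_top_of_dvd (n := 3) h3 le_rfl h)⟩

theorem exists_perf (h : ¬ Group.IsSolvable B) : ∃ L ≤ B, L ≠ ⊥ ∧ ⁅L, L⁆ = L := by
  by_contra h1
  push Not at h1
  exact h (Block.Princ.isSolvable_of_forall_perfect B fun A h2 h3 => by
    by_contra h4; exact h1 A h2 h4 h3)

omit [Finite G] in
theorem not_solv_of_perf {L : Subgroup G} (hL : ⁅L, L⁆ = L) (h0 : L ≠ ⊥) (h1 : L ≤ B) :
    ¬ Group.IsSolvable B := fun h => h0 (Class.Asch.eq_bot_of_perfect_of_le h h1 hL)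

theorem ch_rel_ns (hAB : A ≤ B) (hn : B ≤ Ns A) (hA : Group.IsSolvable A)
    (hB : ¬ Group.IsSolvable B) : Ch 4 A B ∧ (8 ∣ A.relIndex B → Ch 5 A B) := by
  obtain ⟨L, h1, h2, h3⟩ := exists_perf hB
  exact ch_rel_perf hAB hn h3 h1 fun h => not_solv_of_perf h3 h2 h hA

end Cfsg.Lib.Len
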