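import Cfsg.Agent.Len.SC
import Cfsg.Agent.Trans.TransferTools

/-! Dihedral 2-subgroups and an involution with Sylow centralizer `⟨t⟩ × D`. -/

set_option autoImplicit false

namespace Cfsg.Lib.Len

open Subgroup Cfsg.Lib.Trans Cfsg.Lib.Local
open scoped commutatorElement

variable {G : Type*} [Group G]

theorem mem_sup_form {B : Subgroup G} {g : G} (h1 : ∀ b ∈ B, g * b * g⁻¹ ∈ B) (h2 : g * g ∈ B)
    {x : G} : x ∈ B ⊔ zpowers g ↔ ∃ y ∈ B, x = y ∨ x = g * y := by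
  rw [Fus.Grp.mem_sup_zpowers_iff h1 h2]
  constructor
  · rintro (h | h)
    · exact ⟨x, h, Or.inl rfl⟩
    · exact ⟨_, h, Or.inr (by simp)⟩
  · rintro ⟨y, hy, rfl | rfl⟩
    · exact Or.inl hy
    · exact Or.inr (by simpa using hy)

theorem commutator_mul_mem {D : Subgroup G} {a a' d d' : G} (ha : ∀ x ∈ D, a * x * a⁻¹ ∈ D)
    (ha' : ∀ x ∈ D, a' * x * a'⁻¹ ∈ D) (ha'' : ∀ x ∈ D, a⁻¹ * x * a ∈ D) (hd : d ∈ D) (hd' : d' ∈ D)
    (h : ⁅a, a'⁆ ∈ D) : ⁅a * d, a' * d'⁆ ∈ D := by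
  have : ⁅a * d, a' * d'⁆ = a * d * a⁻¹ * (a * (a' * (d' * d⁻¹) * a'⁻¹) * a⁻¹) *
      (a * (a' * (a⁻¹ * d'⁻¹ * a) * a'⁻¹) * a⁻¹) * ⁅a, a'⁆ := by
    simp only [commutatorElement_def]; group
  rw [this]
  exact mul_mem (mul_mem (mul_mem (ha _ hd) (ha _ (ha' _ (mul_mem hd' (inv_mem hd)))))
    (ha _ (ha' _ (ha'' _ (inv_mem hd'))))) h

/-- `D` is dihedral of order `2 ^ (k + 3)` with rotation `c` and reflection `b`. -/
structure Dh (D : Subgroup G) (c b : G) (k : ℕ) : Prop where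
  ord : orderOf c = 2 ^ (k + 2)
  bb : b * b = 1
  inv : b * c * b⁻¹ = c⁻¹
  nm : b ∉ zpowers c
  mem : ∀ x, x ∈ D ↔ ∃ i : ℤ, x = c ^ i ∨ x = b * c ^ i

/-- The action of `g` on the generators. -/
def Act (c b g : G) (m j : ℤ) : Prop := g * c * g⁻¹ = c ^ m ∧ g * b * g⁻¹ = b * c ^ j

theorem Act.zpow {c b g : G} {m j : ℤ} (h : Act c b g m j) (i : ℤ) :
    g * c ^ i * g⁻¹ = c ^ (m * i) := by
  rw [← conj_zpow, h.1, zpow_mul]

theorem Act.refl {c b g : G} {m j : ℤ} (h : Act c b g m j) (i : ℤ) :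
    g * (b * c ^ i) * g⁻¹ = b * c ^ (j + m * i) := by
  rw [zpow_add, ← mul_assoc b, ← h.2, ← h.zpow]; group

theorem Act.mul {c b g g' : G} {m j m' j' : ℤ} (h : Act c b g m j) (h' : Act c b g' m' j') :
    Act c b (g * g') (m * m') (j + m * j') :=
  ⟨by rw [← h.zpow, ← h'.1]; group, by rw [← h.refl, ← h'.2]; group⟩

theorem exists_dh {c b : G} {k : ℕ} (h1 : orderOf c = 2 ^ (k + 2)) (h2 : b * b = 1)
    (h3 : b * c * b⁻¹ = c⁻¹) (h4 : b ∉ zpowers c) : Dh (zpowers c ⊔ zpowers b) c b k := by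
  refine ⟨h1, h2, h3, h4, fun x => ?_⟩
  rw [mem_sup_form (fun y hy => ?_) (by rw [h2]; exact one_mem _)]
  · constructor
    · rintro ⟨y, ⟨i, rfl⟩, h⟩; exact ⟨i, h⟩
    · rintro ⟨i, h⟩; exact ⟨_, ⟨i, rfl⟩, h⟩
  · obtain ⟨i, rfl⟩ := mem_zpowers_iff.1 hy
    rw [← conj_zpow, h3]
    exact zpow_mem (inv_mem (mem_zpowers c)) i

namespace Dh

variable {D : Subgroup G} {c b : G} {k : ℕ}

theorem binv (h : Dh D c b k) : b⁻¹ = b := inv_eq_of_mul_eq_one_right h.bb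

theorem dvd (h : Dh D c b k) {i : ℤ} : c ^ i = 1 ↔ (2 : ℤ) ^ (k + 2) ∣ i := by
  rw [← orderOf_dvd_iff_zpow_eq_one, h.ord]; push_cast; rfl

theorem even (h : Dh D c b k) {i : ℤ} (hi : c ^ i = 1) : Even i :=
  even_iff_two_dvd.2 ((dvd_pow_self 2 (by omega)).trans (h.dvd.1 hi))

theorem four_dvd (h : Dh D c b k) {i : ℤ} (hi : c ^ i = 1) : 4 ∣ i :=
  (show (4 : ℤ) ∣ 2 ^ (k + 2) from ⟨2 ^ k, by ring⟩).trans (h.dvd.1 hi)

theorem cb (h : Dh D c b k) (i : ℤ) : c ^ i * b = b * c ^ (-i) := dih_zpow_mul h.inv i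

theorem bc (h : Dh D c b k) (i : ℤ) : b * c ^ i = c ^ (-i) * b := dih_mul_zpow h.inv i

theorem rr (h : Dh D c b k) (i j : ℤ) : b * c ^ i * (b * c ^ j) = c ^ (j - i) := by
  calc _ = b * (c ^ i * b) * c ^ j := by group
    _ = b * b * (c ^ (-i) * c ^ j) := by rw [h.cb]; group
    _ = _ := by rw [h.bb]; group

theorem rsq (h : Dh D c b k) (i : ℤ) : b * c ^ i * (b * c ^ i) = 1 := by rw [h.rr]; simp

theorem rne (h : Dh D c b k) (i j : ℤ) : b * c ^ i ≠ c ^ j := fun h1 =>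
  h.nm (mem_zpowers_iff.2 ⟨j - i, by rw [zpow_sub, ← h1]; simp⟩)

theorem rord (h : Dh D c b k) (i : ℤ) : orderOf (b * c ^ i) = 2 :=
  orderOf_two_of_mul_self (h.rsq i) (by simpa using h.rne i 0)

theorem cD (h : Dh D c b k) (i : ℤ) : c ^ i ∈ D := (h.mem _).2 ⟨i, Or.inl rfl⟩

theorem rD (h : Dh D c b k) (i : ℤ) : b * c ^ i ∈ D := (h.mem _).2 ⟨i, Or.inr rfl⟩

theorem c1D (h : Dh D c b k) : c ∈ D := by simpa using h.cD 1

theorem bD (h : Dh D c b k) : b ∈ D := by simpa using h.rD 0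

theorem bord (h : Dh D c b k) : orderOf b = 2 := by simpa using h.rord 0

theorem zz (h : Dh D c b k) : c ^ (2 ^ (k + 1) : ℤ) * c ^ (2 ^ (k + 1) : ℤ) = 1 := by
  rw [← zpow_add, h.dvd]; exact ⟨1, by ring⟩

theorem z1 (h : Dh D c b k) : c ^ (2 ^ (k + 1) : ℤ) ≠ 1 := fun h1 => by
  have := Int.le_of_dvd (by positivity) (h.dvd.1 h1)
  have h2 : (0 : ℤ) < 2 ^ (k + 1) := by positivity
  rw [pow_succ] at this
  omega

theorem zord (h : Dh D c b k) : orderOf (c ^ (2 ^ (k + 1) : ℤ)) = 2 :=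
  orderOf_two_of_mul_self h.zz h.z1

theorem zinv (h : Dh D c b k) : c ^ (-(2 ^ (k + 1)) : ℤ) = c ^ (2 ^ (k + 1) : ℤ) := by
  rw [zpow_neg]; exact inv_eq_of_mul_eq_one_right h.zz

theorem act_mem (h : Dh D c b k) {g : G} {m j : ℤ} (hg : Act c b g m j) {x : G} (hx : x ∈ D) :
    g * x * g⁻¹ ∈ D := by
  obtain ⟨i, rfl | rfl⟩ := (h.mem x).1 hx
  · rw [hg.zpow]; exact h.cD _
  · rw [hg.refl]; exact h.rD _

theorem act_z (h : Dh D c b k) {g : G} {m j : ℤ} (hg : Act c b g m j) (hm : Odd m) :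
    g * c ^ (2 ^ (k + 1) : ℤ) * g⁻¹ = c ^ (2 ^ (k + 1) : ℤ) := by
  obtain ⟨l, rfl⟩ := hm
  rw [hg.zpow, show (2 * l + 1) * 2 ^ (k + 1) = 2 ^ (k + 2) * l + 2 ^ (k + 1) by ring, zpow_add,
    h.dvd.2 ⟨l, rfl⟩, one_mul]

theorem act_of_mem (h : Dh D c b k) {x : G} (hx : x ∈ D) :
    ∃ m j : ℤ, Odd m ∧ Even j ∧ Act c b x m j := by
  have h1 : ∀ i : ℤ, Act c b (c ^ i) 1 (-(2 * i)) := fun i =>
    ⟨by group, dih_conj h.inv i⟩
  have h2 : Act c b b (-1) 0 := ⟨by simpa using h.inv, by simp⟩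
  obtain ⟨i, rfl | rfl⟩ := (h.mem x).1 hx
  · exact ⟨_, _, odd_one, by simp, h1 i⟩
  · exact ⟨_, _, by simp, by simp, h2.mul (h1 i)⟩

theorem z_comm (h : Dh D c b k) {x : G} (hx : x ∈ D) :
    x * c ^ (2 ^ (k + 1) : ℤ) = c ^ (2 ^ (k + 1) : ℤ) * x := by
  obtain ⟨m, j, hm, -, h1⟩ := h.act_of_mem hx
  exact mul_inv_eq_iff_eq_mul.1 (h.act_z h1 hm)

theorem inv_cases [Finite G] (h : Dh D c b k) {x : G} (hx : x ∈ D) (h2 : x * x = 1) :
    x = 1 ∨ x = c ^ (2 ^ (k + 1) : ℤ) ∨ ∃ i : ℤ, x = b * c ^ i := by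
  obtain ⟨i, rfl | rfl⟩ := (h.mem x).1 hx
  · by_cases h1 : c ^ i = 1
    · exact Or.inl h1
    · exact Or.inr (Or.inl (GW.eq_of_mem_zpowers (zpow_mem (mem_zpowers c) _)
        (zpow_mem (mem_zpowers c) _) (orderOf_two_of_mul_self h2 h1) h.zord))
  · exact Or.inr (Or.inr ⟨i, rfl⟩)

theorem conj_r (h : Dh D c b k) (i l : ℤ) :
    c ^ l * (b * c ^ i) * (c ^ l)⁻¹ = b * c ^ (i - 2 * l) := by
  rw [← mul_assoc, h.cb]; group

theorem isPGroup [Finite G] (h : Dh D c b k) : IsPGroup 2 D := fun x => by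
  obtain ⟨x, hx⟩ := x
  refine ⟨k + 2, Subtype.ext ?_⟩
  show x ^ 2 ^ (k + 2) = 1
  obtain ⟨i, rfl | rfl⟩ := (h.mem x).1 hx
  · rw [← zpow_natCast, ← zpow_mul, h.dvd]; push_cast; exact Dvd.intro_left _ rfl
  · rw [pow_succ', pow_mul, sq, h.rsq, one_pow]

/-- An involution exchanging the two classes of reflections inverts the rotations. -/
theorem inverts (h : Dh D c b k) {g : G} {m j : ℤ} (hg : Act c b g m j) (hj : Odd j)
    (h2 : g * g = 1) (i : ℤ) : c ^ (m * i) = c ^ (-i) := by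
  have hgi : g⁻¹ = g := inv_eq_of_mul_eq_one_right h2
  have h1 : g * (g * b * g⁻¹) * g⁻¹ = b := by
    rw [hgi]
    calc _ = g * g * b * (g * g) := by group
      _ = b := by rw [h2]; simp
  rw [hg.2, hg.refl, mul_eq_left, h.dvd] at h1
  have h3 : (2 : ℤ) ^ (k + 2) ∣ (m + 1) := by
    have h4 : IsCoprime ((2 : ℤ) ^ (k + 2)) j := (Int.isCoprime_two_left.2 hj).pow_left
    exact h4.dvd_of_dvd_mul_right (by rw [add_mul, one_mul, add_comm (m * j)]; exact h1)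
  rw [← mul_inv_eq_one, ← zpow_sub, h.dvd]
  exact (h3.mul_right i).trans (dvd_of_eq (by ring))

end Dh

/-- The configuration of the transfer lemma. -/
structure LD (D T : Subgroup G) (c b t s : G) (k : ℕ) : Prop extends Dh D c b k where
  ht : orderOf t = 2
  tc : t * c = c * t
  tb : t * b = b * t
  memT : ∀ x, x ∈ T ↔ ∃ d ∈ D, x = d ∨ x = t * d
  act : ∃ m j : ℤ, Odd m ∧ Odd j ∧ Act c b s m j
  st : s * t * s⁻¹ = t * c ^ (2 ^ (k + 1) : ℤ)
  ss : s * s ∈ T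

namespace LD

variable {D T : Subgroup G} {c b t s : G} {k : ℕ}

theorem tt (h : LD D T c b t s k) : t * t = 1 := mul_self_of_orderOf_two h.ht

theorem tact (h : LD D T c b t s k) : Act c b t 1 0 :=
  ⟨by rw [h.tc]; simp, by rw [h.tb]; simp⟩

theorem t_comm (h : LD D T c b t s k) {x : G} (hx : x ∈ D) : t * x = x * t := by
  have h1 : Commute t c := h.tc
  have h2 : Commute t b := h.tb
  obtain ⟨i, rfl | rfl⟩ := (h.mem x).1 hx
  · exact h1.zpow_right i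
  · exact h2.mul_right (h1.zpow_right i)

theorem tdd (h : LD D T c b t s k) {d : G} (hd : d ∈ D) (d' : G) : t * d * (t * d') = d * d' := by
  rw [h.t_comm hd, show d * t * (t * d') = d * (t * t) * d' by group, h.tt, mul_one]

theorem DT (h : LD D T c b t s k) : D ≤ T := fun x hx => (h.memT x).2 ⟨x, hx, Or.inl rfl⟩

theorem tT (h : LD D T c b t s k) : t ∈ T := (h.memT t).2 ⟨1, one_mem _, Or.inr (by simp)⟩

theorem t_commT (h : LD D T c b t s k) {x : G} (hx : x ∈ T) : x * t = t * x := by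
  obtain ⟨d, hd, rfl | rfl⟩ := (h.memT x).1 hx
  · exact (h.t_comm hd).symm
  · rw [mul_assoc, ← h.t_comm hd]

theorem actT (h : LD D T c b t s k) {x : G} (hx : x ∈ T) :
    ∃ m j : ℤ, Odd m ∧ Even j ∧ Act c b x m j := by
  obtain ⟨d, hd, rfl | rfl⟩ := (h.memT x).1 hx
  · exact h.act_of_mem hd
  · obtain ⟨m, j, hm, hj, h1⟩ := h.act_of_mem hd
    exact ⟨_, _, by simpa using hm, by simpa using hj, h.tact.mul h1⟩

theorem sT (h : LD D T c b t s k) {x : G} (hx : x ∈ T) : s * x * s⁻¹ ∈ T := by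
  obtain ⟨m, j, -, -, h1⟩ := h.act
  obtain ⟨d, hd, rfl | rfl⟩ := (h.memT x).1 hx
  · exact h.DT (h.act_mem h1 hd)
  · have : s * (t * d) * s⁻¹ = s * t * s⁻¹ * (s * d * s⁻¹) := by group
    rw [this, h.st]
    exact mul_mem (mul_mem h.tT (h.DT (h.cD _))) (h.DT (h.act_mem h1 hd))

theorem memU (h : LD D T c b t s k) {x : G} :
    x ∈ T ⊔ zpowers s ↔ ∃ y ∈ T, x = y ∨ x = s * y := mem_sup_form (fun _ => h.sT) h.ss

theorem idx (h : LD D T c b t s k) : IdxLeTwo T (T ⊔ zpowers s) := by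
  intro x hx y hy h1 h2
  obtain ⟨x', hx', rfl | rfl⟩ := h.memU.1 hx
  · exact absurd hx' h1
  obtain ⟨y', hy', rfl | rfl⟩ := h.memU.1 hy
  · exact absurd hy' h2
  have : s * x' * (s * y') = s * x' * s⁻¹ * (s * s) * y' := by group
  rw [this]
  exact mul_mem (mul_mem (h.sT hx') h.ss) hy'

theorem sw (h : LD D T c b t s k) {u : G} (hu : u ∈ T ⊔ zpowers s) (huT : u ∉ T) :
    (∃ m j : ℤ, Odd m ∧ Odd j ∧ Act c b u m j) ∧ u * t * u⁻¹ = t * c ^ (2 ^ (k + 1) : ℤ) := by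
  obtain ⟨y, hy, rfl | rfl⟩ := h.memU.1 hu
  · exact absurd hy huT
  obtain ⟨m, j, hm, hj, h1⟩ := h.act
  obtain ⟨m', j', hm', hj', h2⟩ := h.actT hy
  refine ⟨⟨_, _, hm.mul hm', hj.add_even (hj'.mul_left m), h1.mul h2⟩, ?_⟩
  rw [← h.st]
  calc _ = s * (y * t * y⁻¹) * s⁻¹ := by group
    _ = _ := by rw [h.t_commT hy]; simp

theorem actU (h : LD D T c b t s k) {u : G} (hu : u ∈ T ⊔ zpowers s) :
    ∃ m j : ℤ, Odd m ∧ Act c b u m j := by
  by_cases huT : u ∈ T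
  · obtain ⟨m, j, hm, -, h1⟩ := h.actT huT
    exact ⟨m, j, hm, h1⟩
  · obtain ⟨m, j, hm, -, h1⟩ := (h.sw hu huT).1
    exact ⟨m, j, hm, h1⟩

theorem z_commU (h : LD D T c b t s k) {u : G} (hu : u ∈ T ⊔ zpowers s) :
    u * c ^ (2 ^ (k + 1) : ℤ) = c ^ (2 ^ (k + 1) : ℤ) * u := by
  obtain ⟨m, j, hm, h1⟩ := h.actU hu
  exact mul_inv_eq_iff_eq_mul.1 (h.act_z h1 hm)

theorem UD (h : LD D T c b t s k) {u : G} (hu : u ∈ T ⊔ zpowers s) {x : G} (hx : x ∈ D) :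
    u * x * u⁻¹ ∈ D := by
  obtain ⟨m, j, -, h1⟩ := h.actU hu
  exact h.act_mem h1 hx

theorem nc_t (h : LD D T c b t s k) {u : G} (hu : u ∈ T ⊔ zpowers s) (huT : u ∉ T) :
    u * t ≠ t * u := fun h1 => by
  have h2 := (h.sw hu huT).2
  rw [h1, mul_inv_cancel_right, left_eq_mul] at h2
  exact h.z1 h2

theorem nc_r (h : LD D T c b t s k) {u : G} (hu : u ∈ T ⊔ zpowers s) (huT : u ∉ T) (i : ℤ) :
    u * (b * c ^ i) ≠ b * c ^ i * u := fun h1 => by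
  obtain ⟨m, j, hm, hj, h2⟩ := (h.sw hu huT).1
  have h3 := h2.refl i
  rw [h1, mul_inv_cancel_right, mul_right_inj, ← mul_inv_eq_one, ← zpow_sub] at h3
  have := h.even h3
  obtain ⟨l, rfl⟩ := hm
  rw [show i - (j + (2 * l + 1) * i) = -j - 2 * (l * i) by ring] at this
  grind

theorem nc_tr (h : LD D T c b t s k) {u : G} (hu : u ∈ T ⊔ zpowers s) (huT : u ∉ T) (i : ℤ) :
    u * (t * (b * c ^ i)) ≠ t * (b * c ^ i) * u := fun h1 => by
  obtain ⟨⟨m, j, hm, hj, h2⟩, h4⟩ := h.sw hu huT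
  have h3 : u * (t * (b * c ^ i)) * u⁻¹ = u * t * u⁻¹ * (u * (b * c ^ i) * u⁻¹) := by group
  rw [h1, mul_inv_cancel_right, h4, h2.refl, mul_assoc, mul_right_inj, ← h.z_comm (h.rD _),
    mul_assoc, mul_right_inj, ← zpow_add, ← mul_inv_eq_one, ← zpow_sub] at h3
  have := h.even h3
  obtain ⟨l, rfl⟩ := hm
  rw [show i - (j + (2 * l + 1) * i + 2 ^ (k + 1)) = -j - 2 * (l * i + 2 ^ k) by ring] at this
  grind

theorem sU (_ : LD D T c b t s k) : s ∈ T ⊔ zpowers s := mem_sup_right (mem_zpowers s)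

theorem snT (h : LD D T c b t s k) : s ∉ T := fun h1 => by
  have h2 := h.st
  rw [h.t_commT h1, mul_inv_cancel_right, left_eq_mul] at h2
  exact h.z1 h2

variable [Finite G]

theorem sN (h : LD D T c b t s k) : s ∈ normalizer (T : Set G) :=
  mem_normalizer_of_cj_le (cj_le_iff.2 fun _ => h.sT)

omit [Finite G] in
theorem pU (h : LD D T c b t s k) (hT : IsPGroup 2 T) : IsPGroup 2 ↥(T ⊔ zpowers s) := by
  intro x
  obtain ⟨l, hl⟩ := hT ⟨x * x, h.idx.mul_self_mem x.2⟩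
  refine ⟨l + 1, Subtype.ext ?_⟩
  show (x : G) ^ 2 ^ (l + 1) = 1
  rw [pow_succ', pow_mul, sq]
  exact congrArg Subtype.val hl

theorem not_conj_z (h : LD D T c b t s k) (hT : IsSylowIn 2 T (centralizer {t})) :
    ¬ IsConj t (c ^ (2 ^ (k + 1) : ℤ)) := fun h1 => by
  obtain ⟨g, -, hg⟩ := exists_extremal_conj hT h1.symm (h.pU hT.isPGroup) fun r hr => h.z_commU hr
  have h2 := Subgroup.card_le_of_le (cj_le_iff.2 hg)
  rw [card_cj] at h2
  have := card_lt_of_lt (lt_of_le_of_ne (le_sup_left : T ≤ T ⊔ zpowers s) fun h3 =>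
    h.snT (h3 ▸ h.sU))
  omega

theorem not_conj (h : LD D T c b t s k) (hT : IsSylowIn 2 T (centralizer {t}))
    (hb : IsConj b (c ^ (2 ^ (k + 1) : ℤ))) {x : G} (hx : x ∈ D) : ¬ IsConj t x := fun h1 => by
  refine h.not_conj_z hT ?_
  obtain ⟨g, hg⟩ := isConj_iff.1 h1
  have h2 : x * x = 1 := by
    rw [← hg]
    calc _ = g * (t * t) * g⁻¹ := by group
      _ = 1 := by rw [h.tt]; simp
  rcases h.inv_cases hx h2 with rfl | rfl | ⟨i, rfl⟩
  · exact absurd (by simpa using hg) (ne_one_of_orderOf_two h.ht)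
  · exact h1
  · refine h1.trans (IsConj.trans ?_ hb)
    obtain ⟨m, j, -, ⟨l, rfl⟩, h3⟩ := h.act
    rcases Int.even_or_odd' i with ⟨n, rfl | rfl⟩
    · exact isConj_iff.2 ⟨c ^ n, by rw [h.conj_r]; simp⟩
    · refine (isConj_iff.2 ⟨c ^ (n - l), ?_⟩).trans (isConj_iff.2 ⟨s, h3.2⟩).symm
      rw [h.conj_r]; congr 2; ring

theorem sylow (h : LD D T c b t s k) (hT : IsSylowIn 2 T (centralizer {t}))
    (hb : IsConj b (c ^ (2 ^ (k + 1) : ℤ))) : IsSylowIn 2 (T ⊔ zpowers s) ⊤ := by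
  refine isSylowIn_of_maximal le_top (h.pU hT.isPGroup) fun S hS hUS _ => ?_
  by_contra h0
  obtain ⟨g, ⟨hgS, hgN⟩, hgU⟩ :=
    SetLike.exists_of_lt (lt_inf_normalizer hS (lt_of_le_not_ge hUS h0))
  have hST : ∀ x ∈ S, x * t = t * x → x ∈ T := fun x hx h1 =>
    hT.eq_inf hS (le_sup_left.trans hUS) ▸ (⟨hx, mem_C1.2 h1⟩ : x ∈ S ⊓ centralizer {t})
  have hTU : T ≤ T ⊔ zpowers s := le_sup_left
  have hu : g * t * g⁻¹ ∈ T ⊔ zpowers s := (mem_normalizer_iff.1 hgN t).1 (hTU h.tT)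
  have key : ∀ x ∈ T ⊔ zpowers s, ∀ y ∈ T ⊔ zpowers s, x * (g * t * g⁻¹) ≠ g * t * g⁻¹ * x →
      y * (g * t * g⁻¹) ≠ g * t * g⁻¹ * y → x * y * (g * t * g⁻¹) = g * t * g⁻¹ * (x * y) := by
    intro x hx y hy h1 h2
    have a : ∀ x ∈ T ⊔ zpowers s, g⁻¹ * x * g ∈ T ⊔ zpowers s := fun x hx => by
      simpa using (mem_normalizer_iff.1 (inv_mem hgN) x).1 hx
    have a2 : ∀ x, g⁻¹ * x * g ∈ T → x * (g * t * g⁻¹) = g * t * g⁻¹ * x := fun x hx => by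
      calc _ = g * (g⁻¹ * x * g * t) * g⁻¹ := by group
        _ = _ := by rw [h.t_commT hx]; group
    refine a2 _ ?_
    have := h.idx _ (a x hx) _ (a y hy) (fun h3 => h1 (a2 x h3)) (fun h3 => h2 (a2 y h3))
    convert this using 1; group
  by_cases huT : g * t * g⁻¹ ∈ T
  · obtain ⟨d, hd, h1 | h1⟩ := (h.memT _).1 huT
    · exact h.not_conj hT hb hd (isConj_iff.2 ⟨g, h1⟩)
    have h2 : d * d = 1 := by
      calc d * d = t * d * (t * d) := (h.tdd hd d).symm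
        _ = g * (t * t) * g⁻¹ := by rw [← h1]; group
        _ = 1 := by rw [h.tt]; simp
    rcases h.inv_cases hd h2 with rfl | rfl | ⟨i, rfl⟩
    · exact hgU (hTU (hST g hgS (mul_inv_eq_iff_eq_mul.1 (by simpa using h1))))
    · have h3 : s⁻¹ * g ∈ T := hST _ (mul_mem (inv_mem (hUS h.sU)) hgS) (by
        rw [← h.st] at h1
        calc s⁻¹ * g * t = s⁻¹ * (g * t * g⁻¹) * g := by group
          _ = _ := by rw [h1]; group)
      exact hgU (h.memU.2 ⟨_, h3, Or.inr (by simp)⟩)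
    · rw [h1] at key
      refine h.nc_tr (mul_mem (hTU (h.DT h.c1D)) h.sU)
        (fun h3 => h.snT ((T.mul_mem_cancel_left (h.DT h.c1D)).1 h3)) i
        (key _ (hTU (h.DT h.c1D)) _ h.sU (fun h3 => ?_) (h.nc_tr h.sU h.snT i))
      have h4 := h.conj_r i 1
      rw [← mul_assoc, ← h.tc, mul_assoc, mul_assoc t, mul_right_inj] at h3
      rw [zpow_one, h3, mul_inv_cancel_right, mul_right_inj, ← mul_inv_eq_one, ← zpow_sub] at h4
      have := h.four_dvd h4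
      omega
  · refine h.nc_tr hu huT 0 (key _ (hTU h.tT) _ (hTU (h.DT (h.rD 0))) (h.nc_t hu huT).symm
      (h.nc_r hu huT 0).symm).symm

omit [Finite G] in
theorem comm_mem (h : LD D T c b t s k) {x y : G} (hx : x ∈ T ⊔ zpowers s)
    (hy : y ∈ T ⊔ zpowers s) : ⁅x, y⁆ ∈ D := by
  have hTU : T ≤ T ⊔ zpowers s := le_sup_left
  have key : ∀ x ∈ T ⊔ zpowers s, ∃ a, (a = 1 ∨ a = t ∨ a = s ∨ a = s * t) ∧
      a ∈ T ⊔ zpowers s ∧ ∃ d ∈ D, x = a * d := fun x hx => by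
    obtain ⟨y, hy, h1⟩ := h.memU.1 hx
    obtain ⟨d, hd, h2⟩ := (h.memT y).1 hy
    rcases h1 with rfl | rfl <;> rcases h2 with rfl | rfl
    · exact ⟨1, by simp, one_mem _, _, hd, by simp⟩
    · exact ⟨t, by simp, hTU h.tT, _, hd, rfl⟩
    · exact ⟨s, by simp, h.sU, _, hd, rfl⟩
    · exact ⟨s * t, by simp, mul_mem h.sU (hTU h.tT), _, hd, (mul_assoc _ _ _).symm⟩
  obtain ⟨a, ha, haU, d, hd, rfl⟩ := key x hx
  obtain ⟨a', ha', haU', d', hd', rfl⟩ := key y hy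
  refine commutator_mul_mem (fun _ => h.UD haU) (fun _ => h.UD haU')
    (fun x hx => by simpa using h.UD (inv_mem haU) hx) hd hd' ?_
  have h1 : ⁅s, t⁆ ∈ D := by
    rw [commutatorElement_def, h.st, h.t_comm (h.cD _), mul_inv_cancel_right]; exact h.cD _
  have h2 : ⁅t, s⁆ ∈ D := by rw [← commutatorElement_inv]; exact inv_mem h1
  have h3 : ⁅s * t, t⁆ ∈ D := by
    convert h1 using 1; simp only [commutatorElement_def]; group
  have h4 : ⁅s, s * t⁆ ∈ D := by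
    convert h.UD h.sU h1 using 1; simp only [commutatorElement_def]; group
  have h5 : ⁅t, s * t⁆ ∈ D := by rw [← commutatorElement_inv]; exact inv_mem h3
  have h6 : ⁅s * t, s⁆ ∈ D := by rw [← commutatorElement_inv]; exact inv_mem h4
  rcases ha with rfl | rfl | rfl | rfl <;> rcases ha' with rfl | rfl | rfl | rfl <;>
    first | assumption | simp

omit [Finite G] in
theorem out_cases (h : LD D T c b t s k) {σ u : G} (hσ : σ ∈ T ⊔ zpowers s) (hσT : σ ∉ T)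
    (h2 : σ * σ = 1) (hu : u ∈ T ⊔ zpowers s) :
    ∃ d ∈ D, u = d ∨ u = t * d ∨ u = σ * d ∨ u = σ * t * d := by
  by_cases huT : u ∈ T
  · obtain ⟨d, hd, h1 | h1⟩ := (h.memT u).1 huT
    exacts [⟨d, hd, Or.inl h1⟩, ⟨d, hd, Or.inr (Or.inl h1)⟩]
  · obtain ⟨d, hd, h1 | h1⟩ := (h.memT _).1 (h.idx _ hσ _ hu hσT huT)
    · exact ⟨d, hd, Or.inr (Or.inr (Or.inl (by rw [← h1, ← mul_assoc, h2, one_mul])))⟩
    · exact ⟨d, hd, Or.inr (Or.inr (Or.inr (by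
        rw [mul_assoc, ← h1, ← mul_assoc, h2, one_mul])))⟩

omit [Finite G] in
theorem sq_out (h : LD D T c b t s k) {σ d : G} (hσ : σ ∈ T ⊔ zpowers s) (hσT : σ ∉ T)
    (h2 : σ * σ = 1) (hd : d ∈ D) : (σ * d * (σ * d) = σ * d * σ⁻¹ * d) ∧
      σ * t * d * (σ * t * d) = c ^ (2 ^ (k + 1) : ℤ) * (σ * d * σ⁻¹ * d) := by
  have hi : σ⁻¹ = σ := inv_eq_of_mul_eq_one_right h2
  refine ⟨by rw [hi]; group, ?_⟩
  have h3 := (h.sw hσ hσT).2
  have h4 := h.t_comm (h.UD hσ hd)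
  calc σ * t * d * (σ * t * d) = σ * t * σ⁻¹ * (σ * d * σ⁻¹ * t) * d := by
        nth_rewrite 2 [hi]; group
    _ = _ := by
      rw [h3, ← h4, h.t_comm (h.cD _)]
      calc _ = c ^ (2 ^ (k + 1) : ℤ) * (t * t) * (σ * d * σ⁻¹ * d) := by group
        _ = _ := by rw [h.tt, mul_one]

theorem not_mem (h : LD D T c b t s k) (hT : IsSylowIn 2 T (centralizer {t}))
    (hb : IsConj b (c ^ (2 ^ (k + 1) : ℤ))) : t ∉ commutator G ⊔ pResidual 2 G := fun ht => by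
  have hTU : T ≤ T ⊔ zpowers s := le_sup_left
  have htt : ∀ d ∈ D, ∀ d' ∈ D, t * d * (t * d') ∈ D := fun d hd d' hd' => by
    rw [h.tdd hd]
    exact mul_mem hd hd'
  have : ∃ M : Subgroup G, D ≤ M ∧ (∀ u ∈ T ⊔ zpowers s, ∀ v ∈ T ⊔ zpowers s, orderOf u = 2 →
      orderOf v = 2 → u ∉ M → v ∉ M → u * v ∈ M) ∧ ∀ u ∈ M, u * u = 1 → u ∈ D := by
    by_cases h1 : ∃ σ ∈ T ⊔ zpowers s, σ ∉ T ∧ σ * σ = 1
    · obtain ⟨σ, hσ, hσT, h2⟩ := h1
      have hi : σ⁻¹ = σ := inv_eq_of_mul_eq_one_right h2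
      have hst : σ * t ∈ T ⊔ zpowers s := mul_mem hσ (hTU h.tT)
      have hm : ∀ x, x ∈ D ⊔ zpowers (σ * t) ↔ ∃ y ∈ D, x = y ∨ x = σ * t * y := fun x =>
        mem_sup_form (fun _ => h.UD hst) (by
          have := (h.sq_out hσ hσT h2 (one_mem D)).2
          simp only [mul_one, mul_inv_cancel] at this
          rw [this]; exact h.cD _)
      have h3 := (h.sw hσ hσT).2
      refine ⟨D ⊔ zpowers (σ * t), le_sup_left, fun u hu v hv _ _ h4 h5 => ?_, fun u hu h4 => ?_⟩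
      · obtain ⟨d, hd, rfl | rfl | rfl | rfl⟩ := h.out_cases hσ hσT h2 hu
        · exact absurd (mem_sup_left hd) h4
        rotate_left 2
        · exact absurd ((hm _).2 ⟨d, hd, Or.inr rfl⟩) h4
        all_goals
          obtain ⟨d', hd', rfl | rfl | rfl | rfl⟩ := h.out_cases hσ hσT h2 hv
          · exact absurd (mem_sup_left hd') h5
          rotate_left 2
          · exact absurd ((hm _).2 ⟨d', hd', Or.inr rfl⟩) h5
        · exact mem_sup_left (htt _ hd _ hd')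
        · refine (hm _).2 ⟨c ^ (2 ^ (k + 1) : ℤ) * (σ * d * σ⁻¹) * d',
            mul_mem (mul_mem (h.cD _) (h.UD hσ hd)) hd', Or.inr ?_⟩
          calc t * d * (σ * d') = σ * (σ * t * σ⁻¹) * (σ * d * σ⁻¹) * d' := by
                nth_rewrite 2 [hi]
                calc _ = σ * σ * t * d * (σ * d') := by rw [h2, one_mul]
                  _ = _ := by group
            _ = _ := by rw [h3]; group
        · refine (hm _).2 ⟨d * d', mul_mem hd hd', Or.inr ?_⟩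
          rw [mul_assoc σ t, ← mul_assoc t, h.t_comm hd]; group
        · refine mem_sup_left ?_
          have : σ * d * (σ * d') = σ * d * σ⁻¹ * d' := by rw [hi]; group
          rw [this]; exact mul_mem (h.UD hσ hd) hd'
      · obtain ⟨d, hd, rfl | rfl⟩ := (hm u).1 hu
        · exact hd
        · exfalso
          rw [(h.sq_out hσ hσT h2 hd).2] at h4
          obtain ⟨m, j, hm, hj, h5⟩ := (h.sw hσ hσT).1
          obtain ⟨i, rfl | rfl⟩ := (h.mem d).1 hd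
          · rw [h5.zpow, h.inverts h5 hj h2, ← zpow_add, neg_add_cancel, zpow_zero, mul_one] at h4
            exact h.z1 h4
          · rw [h5.refl, h.rr, ← zpow_add] at h4
            have := h.even h4
            obtain ⟨l, rfl⟩ := hm
            rw [show 2 ^ (k + 1) + (i - (j + (2 * l + 1) * i)) = -j + 2 * (2 ^ k - l * i) by ring]
              at this
            grind
    · push Not at h1
      refine ⟨D, le_rfl, fun u hu v hv h2 h3 h4 h5 => ?_, fun u hu _ => hu⟩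
      have a : ∀ u ∈ T ⊔ zpowers s, orderOf u = 2 → u ∉ D → ∃ d ∈ D, u = t * d := fun u hu h2 h4 => by
        obtain ⟨d, hd, rfl | rfl⟩ := (h.memT u).1 (by_contra fun h6 =>
          h1 u hu h6 (mul_self_of_orderOf_two h2))
        exacts [absurd hd h4, ⟨d, hd, rfl⟩]
      obtain ⟨d, hd, rfl⟩ := a u hu h2 h4
      obtain ⟨d', hd', rfl⟩ := a v hv h3 h5
      exact htt _ hd _ hd'
  obtain ⟨M, hDM, h1, h2⟩ := this
  obtain ⟨a, -, ha, -⟩ := thompson_transfer_involution (H := T ⊔ zpowers s) (T := M)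
    (by simpa using (h.sylow hT hb).not_dvd) (fun x hx y hy => hDM (h.comm_mem hx hy))
    (fun x hx => by
      obtain ⟨l, hl⟩ := h.pU hT.isPGroup ⟨x, hx⟩
      exact ⟨l, (show x ^ 2 ^ l = 1 from congrArg Subtype.val hl) ▸ one_mem M⟩)
    t h.ht h1 ht ⊥ IsPGroup.of_bot (fun r hr => by simp [mem_bot.1 hr])
  refine h.not_conj hT hb (h2 _ ha ?_) (isConj_iff.2 ⟨a⁻¹, by simp⟩)
  calc _ = a⁻¹ * (t * t) * a := by group
    _ = 1 := by rw [h.tt]; simp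

omit [Finite G] in
theorem sq_mem (h : LD D T c b t s k) {σ u : G} (hσ : σ ∈ T ⊔ zpowers s) (hσT : σ ∉ T)
    (h2 : σ * σ = 1) (hu : u ∈ T ⊔ zpowers s) : u * u ∈ zpowers c := by
  have a : ∀ {g : G} {m j : ℤ}, Act c b g m j → ∀ d ∈ D, g * d * g⁻¹ * d ∈ zpowers c :=
    fun hg d hd => by
      obtain ⟨i, rfl | rfl⟩ := (h.mem d).1 hd
      · rw [hg.zpow, ← zpow_add]; exact zpow_mem (mem_zpowers c) _
      · rw [hg.refl, h.rr]; exact zpow_mem (mem_zpowers c) _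
  have a1 : ∀ d ∈ D, d * d ∈ zpowers c := fun d hd => by
    simpa using a (g := 1) (m := 1) (j := 0) ⟨by simp, by simp⟩ d hd
  obtain ⟨m, j, -, -, h3⟩ := (h.sw hσ hσT).1
  obtain ⟨d, hd, rfl | rfl | rfl | rfl⟩ := h.out_cases hσ hσT h2 hu
  · exact a1 _ hd
  · rw [h.tdd hd]; exact a1 _ hd
  · rw [(h.sq_out hσ hσT h2 hd).1]; exact a h3 _ hd
  · rw [(h.sq_out hσ hσT h2 hd).2]; exact mul_mem (zpow_mem (mem_zpowers c) _) (a h3 _ hd)

end LD

end Cfsg.Lib.Len
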