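import Cfsg.Agent.Len.Ch
import Cfsg.Agent.Len.Dih
import Cfsg.Agent.Len.MxS4
import Cfsg.Agent.Gold.Cm
import Cfsg.Agent.Trans.AutSmall
import Cfsg.Agent.Solv.PGroupBasic

/-! The chain hypothesis and extensions of index two. -/

set_option autoImplicit false

namespace Cfsg.Lib.Len

open Subgroup Cfsg.Lib.Trans Cfsg.Lib.Local Cfsg.Lib.Gold
open scoped commutatorElement ArithmeticFunction.Omega

variable {G : Type*} [Group G] {A B M P Q U V X Y : Subgroup G} {n : ℕ} {s g x : G}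

theorem mem_Cs : g ∈ Cs A ↔ ∀ a ∈ A, a * g = g * a := mem_centralizer_iff

theorem cj_of_comm {a : G} (h : a * g = g * a) : g * a * g⁻¹ = a := by rw [← h]; group

theorem comm_of_cj {a : G} (h : g * a * g⁻¹ = a) : a * g = g * a := by
  conv_lhs => rw [← h]
  group

/-- `s` extends `P` by one coset. -/
structure Ext (P : Subgroup G) (s : G) : Prop where
  N : s ∈ Ns P
  nm : s ∉ P
  sq : s * s ∈ P

namespace Ext

theorem mem (h : Ext P s) : x ∈ P ⊔ zpowers s ↔ ∃ y ∈ P, x = y ∨ x = s * y :=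
  mem_sup_form (fun _ => mem_normalizer_conj h.N) h.sq

theorem card (h : Ext P s) : Nat.card ↥(P ⊔ zpowers s) = 2 * Nat.card P :=
  Solv.PG.card_sup_zpowers Nat.prime_two h.N h.nm (by rw [pow_two]; exact h.sq)

theorem pg (h : Ext P s) (hP : IsPGroup 2 P) : IsPGroup 2 ↥(P ⊔ zpowers s) :=
  isPGroup_sup_sq hP h.N h.sq

theorem sm (_ : Ext P s) : s ∈ P ⊔ zpowers s := mem_sup_right (mem_zpowers s)

theorem lt (h : Ext P s) : P < P ⊔ zpowers s :=
  lt_of_le_of_ne le_sup_left fun e => h.nm (e ▸ h.sm)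

theorem le (_ : Ext P s) (h1 : P ≤ Y) (h2 : s ∈ Y) : P ⊔ zpowers s ≤ Y :=
  sup_le h1 (zpowers_le.2 h2)

theorem le_Ns (h : Ext P s) : P ⊔ zpowers s ≤ Ns P := h.le le_normalizer h.N

theorem idx (h : Ext P s) : IdxLeTwo P (P ⊔ zpowers s) := fun a ha b hb h1 h2 => by
  obtain ⟨y, hy, rfl | rfl⟩ := h.mem.1 ha
  · exact absurd hy h1
  obtain ⟨w, hw, rfl | rfl⟩ := h.mem.1 hb
  · exact absurd hw h2
  have : s * y * (s * w) = s * y * s⁻¹ * (s * s) * w := by group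
  rw [this]
  exact mul_mem (mul_mem (mem_normalizer_conj h.N hy) h.sq) hw

theorem eq_or (h : Ext P s) (h1 : P ≤ Y) (h2 : Y ≤ P ⊔ zpowers s) : Y = P ∨ Y = P ⊔ zpowers s := by
  by_cases h3 : Y ≤ P
  · exact Or.inl (le_antisymm h3 h1)
  · obtain ⟨x, hx, hxP⟩ := SetLike.not_le_iff_exists.1 h3
    obtain ⟨y, hy, rfl | rfl⟩ := h.mem.1 (h2 hx)
    · exact absurd hy hxP
    · exact Or.inr (le_antisymm h2 (h.le h1 ((Y.mul_mem_cancel_right (h1 hy)).1 hx)))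

end Ext

theorem idx_cj (h : IdxLeTwo P U) (g : G) : IdxLeTwo (cj g P) (cj g U) := fun a ha b hb h1 h2 => by
  rw [mem_cj] at *
  have := h _ ha _ hb h1 h2
  convert this using 1
  group

theorem idx_mono (h : IdxLeTwo P U) (h1 : Y ≤ U) : IdxLeTwo P Y := fun a ha b hb =>
  h a (h1 ha) b (h1 hb)

theorem ext_of_idx (h : IdxLeTwo P U) (hP : P ≤ U) (hs : s ∈ U) (h1 : s ∉ P) [Finite G] :
    Ext P s ∧ U = P ⊔ zpowers s := by
  have h2 : Ext P s := ⟨mem_normalizer_of_cj_le (cj_le_iff.2 fun a ha => h.conj_mem hs (hP ha) ha),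
    h1, h.mul_self_mem hs⟩
  refine ⟨h2, le_antisymm (fun x hx => h2.mem.2 ?_) (h2.le hP hs)⟩
  by_cases h3 : x ∈ P
  · exact ⟨x, h3, Or.inl rfl⟩
  · exact ⟨s⁻¹ * x, h _ (inv_mem hs) _ hx (by simpa using h1) h3, Or.inr (by simp)⟩

variable [Finite G]

theorem card_le_of_idx (h : IdxLeTwo P U) (hP : P ≤ U) : Nat.card U ≤ 2 * Nat.card P := by
  by_cases h1 : U ≤ P
  · have := Trans.card_le_of_le h1
    omega
  · obtain ⟨s, hs, h2⟩ := SetLike.not_le_iff_exists.1 h1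
    obtain ⟨h3, rfl⟩ := ext_of_idx h hP hs h2
    exact h3.card.le

theorem eq_of_le_of_card (h : P ≤ U) (h1 : Nat.card U ≤ Nat.card P) : P = U :=
  Subgroup.eq_of_le_of_card_ge h h1

theorem exists_ext (hQ : IsPGroup 2 Q) (h : P < Q) : ∃ s ∈ Q, Ext P s := by
  obtain ⟨x, hx, hxP⟩ := SetLike.exists_of_lt (lt_inf_normalizer hQ h)
  obtain ⟨k, hk⟩ := hQ ⟨x, hx.1⟩
  have h1 : x ^ 2 ^ k ∈ P := by rw [show x ^ 2 ^ k = 1 from congrArg Subtype.val hk]; exact one_mem _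
  clear hk
  induction k generalizing x with
  | zero => exact absurd (by simpa using h1) hxP
  | succ k ih =>
    by_cases h2 : x * x ∈ P
    · exact ⟨x, hx.1, hx.2, hxP, h2⟩
    · exact ih (x * x) (mul_mem hx hx) h2 (by rwa [← pow_two, ← pow_mul, ← pow_succ'])

theorem idx_of_card (h : P ≤ U) (hU : IsPGroup 2 U) (h1 : Nat.card U ≤ 2 * Nat.card P) :
    IdxLeTwo P U := by
  rcases h.eq_or_lt with rfl | h2
  · exact fun a ha _ _ h3 => absurd ha h3
  · obtain ⟨s, hs, h3⟩ := exists_ext hU h2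
    rw [← eq_of_le_of_card (h3.le h hs) (by rw [h3.card]; exact h1)]
    exact h3.idx

theorem exists_ext_or (hP : IsPGroup 2 P) (hY : P ≤ Y) : IsSylowIn 2 P Y ∨ ∃ s ∈ Y, Ext P s := by
  obtain ⟨T, hT, h1⟩ := exists_isSylowIn_ge hP hY
  rcases h1.eq_or_lt with rfl | h2
  · exact Or.inl hT
  · obtain ⟨s, hs, h3⟩ := exists_ext hT.isPGroup h2
    exact Or.inr ⟨s, hT.le hs, h3⟩

theorem not_mem_of_odd (hP : IsPGroup 2 P) (ho : (orderOf g).Coprime 2) (h1 : g ≠ 1) : g ∉ P :=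
  fun h => by
    obtain ⟨k, hk⟩ := hP ⟨g, h⟩
    have h2 : orderOf g ∣ 2 ^ k := orderOf_dvd_of_pow_eq_one (congrArg Subtype.val hk)
    exact h1 (orderOf_eq_one_iff.1 (Nat.Coprime.eq_one_of_dvd (ho.pow_right k) h2))

theorem dvd_of_sylow (h : IsSylowIn 2 P Y) (h1 : 2 ^ n ∣ Nat.card Y) : 2 ^ n ∣ Nat.card P := by
  rw [h.card_eq]
  exact pow_dvd_pow _ ((Nat.prime_two.pow_dvd_iff_le_factorization Nat.card_pos.ne').1 h1)

theorem isSolvable_two (hP : IsPGroup 2 P) : Group.IsSolvable P := Cor.isSolvable_of_isPGroup hP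

theorem ch_two_card (hP : IsPGroup 2 P) (h : Nat.card P = 2 ^ n) : Ch n ⊥ P :=
  ch_pgroup hP h.symm.dvd

theorem le_Cs_of_perf_klein {L : Subgroup G} (hV : IsKleinFour V) (hL : ⁅L, L⁆ = L)
    (h : L ≤ Ns V) : L ≤ Cs V := by
  by_contra h1
  have : ((Cs V).subgroupOf (Ns V)).Normal :=
    (normal_subgroupOf_iff_le_normalizer (centralizer_le_normalizer _)).2
      (normalizer_le_normalizer_centralizer V)
  refine not_solv_quot hL h h1 ?_
  by_contra h2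
  have h3 := (four_dvd_card h2).trans (klein_relIndex_dvd hV)
  norm_num at h3

variable (G) in
/-- No chain of length nine, and no chain of length eight unless `2 ^ 7` divides the order. -/
structure Hy : Prop where
  ns : ¬ Group.IsSolvable G
  n9 : ¬ Ch 9 (⊥ : Subgroup G) ⊤
  alt : ¬ Ch 8 (⊥ : Subgroup G) ⊤ ∨ 2 ^ 7 ∣ Nat.card G

namespace Hy

omit [Finite G] in
theorem n8 (h : Hy G) (hM : M ≠ ⊤) : ¬ Ch 8 ⊥ M := fun h1 => h.n9 (h1.step hM.lt_top)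

omit [Finite G] in
theorem big (h : Hy G) (hM : M ≠ ⊤) (h1 : Ch 7 ⊥ M) : 2 ^ 7 ∣ Nat.card G :=
  h.alt.resolve_left fun h2 => h2 (h1.step hM.lt_top)

omit [Finite G] in
theorem ne_top (h : Hy G) (hs : Group.IsSolvable M) : M ≠ ⊤ := by
  rintro rfl
  exact h.ns (Group.isSolvable_of_surjective (f := (topEquiv (G := G)).toMonoidHom)
    (MulEquiv.surjective _))

omit [Finite G] in
theorem Ns_ne [IsSimpleGroup G] (h0 : X ≠ ⊥) (h1 : X ≠ ⊤) : Ns X ≠ ⊤ := fun h2 =>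
  (IsSimpleGroup.eq_bot_or_eq_top_of_normal X (normalizer_eq_top_iff.1 h2)).elim h0 h1

theorem Ns_ne_two [IsSimpleGroup G] (h : Hy G) (h0 : X ≠ ⊥) (h1 : IsPGroup 2 X) : Ns X ≠ ⊤ :=
  Ns_ne h0 (h.ne_top (isSolvable_two h1))

theorem eq_of_big (h : Hy G) (hP : IsPGroup 2 P) (h1 : 2 ^ 7 ∣ Nat.card P) (h2 : P ≤ Y)
    (hY : Y ≠ ⊤) : Y = P := by
  by_contra h3
  exact h.n8 hY ((ch_pgroup hP h1).step (lt_of_le_of_ne h2 (Ne.symm h3)))

theorem card_eq (h : Hy G) (hM : M ≠ ⊤) (hs : Group.IsSolvable M) {a : ℕ} (h1 : a ∣ Nat.card M)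
    (h2 : Ω a = 7) : Nat.card M = a :=
  eq_of_omega_le h1 Nat.card_pos.ne' (by
    by_contra h3
    exact h.n8 hM ((ch_solv hs).anti (by omega)))

theorem card_eq_six (h : ¬ 2 ^ 7 ∣ Nat.card G) (h' : Hy G) (hM : M ≠ ⊤) (hs : Group.IsSolvable M)
    {a : ℕ} (h1 : a ∣ Nat.card M) (h2 : Ω a = 6) : Nat.card M = a :=
  eq_of_omega_le h1 Nat.card_pos.ne' (by
    by_contra h3
    exact h (h'.big hM ((ch_solv hs).anti (by omega))))

theorem no_idx [IsSimpleGroup G] (h : Hy G) (H : Subgroup G) : H.index ≠ 2 := fun h1 => by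
  have h2 := normal_of_index_eq_two h1
  rcases IsSimpleGroup.eq_bot_or_eq_top_of_normal H h2 with rfl | rfl
  · rw [index_bot] at h1
    exact h.ns (isSolvable_of_card_le_two h1.le)
  · simp at h1

end Hy

theorem exists_ext_big (h : 2 ^ 7 ∣ Nat.card G) (hP : IsPGroup 2 P) (h1 : ¬ 2 ^ 7 ∣ Nat.card P) :
    ∃ s, Ext P s := by
  rcases exists_ext_or hP le_top with h2 | ⟨s, -, h2⟩
  · exact absurd (dvd_of_sylow h2 (by rwa [card_top])) h1
  · exact ⟨s, h2⟩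

/-- In the large case a subgroup of order 64 is not normalised by an element of odd order. -/
theorem Hy.not_norm [IsSimpleGroup G] (h : Hy G) (hb : 2 ^ 7 ∣ Nat.card G) (hP : IsPGroup 2 P)
    (h1 : Nat.card P = 64) (hg : g ∈ Ns P) (ho : (orderOf g).Coprime 2) : g = 1 := by
  obtain ⟨s, hs⟩ := exists_ext_big hb hP (by rw [h1]; norm_num)
  have h2 := h.eq_of_big (hs.pg hP) (by rw [hs.card, h1]; norm_num) hs.le_Ns
    (h.Ns_ne_two (by rintro rfl; simp at h1) hP)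
  by_contra h3
  exact not_mem_of_odd (hs.pg hP) ho h3 (h2 ▸ hg)

end Cfsg.Lib.Len
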