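import Cfsg.Agent.Len.Ch
import Cfsg.Agent.Fus.SL3Type
import Cfsg.Agent.Known.GU2Sylow
import Cfsg.Agent.Known.PSUAut
import Cfsg.Agent.Ngrp.AsmFacts
import Cfsg.Agent.Ngrp.Plane3
import Cfsg.Agent.Class.PSL2MaxList
import Cfsg.Agent.Class.SLCenter
import Cfsg.Agent.Char.Burnside
import Cfsg.Agent.S2140

/-! Long chains of subgroups in three-dimensional linear and unitary groups. -/

set_option autoImplicit false

namespace Cfsg.Lib.Len

open Subgroup Cfsg.Lib.Trans Cfsg.Lib.Local Cfsg.Lib.Gold Cfsg.Lib.Fus.Grp Matrix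
open scoped commutatorElement ArithmeticFunction.Omega

variable {G H : Type*} [Group G] [Group H] {n : ℕ}

theorem Ch.map_ker {A B : Subgroup G} (h : Ch n A B) (f : G →* H) (hf : f.ker ≤ A) :
    Ch n (A.map f) (B.map f) := by
  induction n generalizing A with
  | zero => exact map_mono h
  | succ n ih =>
    obtain ⟨C, h1, h2⟩ := h
    refine ⟨C.map f, lt_of_le_of_ne (map_mono h1.le) fun e => h1.ne ?_, ih h2 (hf.trans h1.le)⟩
    rw [← comap_map_eq_self hf, e, comap_map_eq_self (hf.trans h1.le)]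

theorem Ch.quot {A : Subgroup G} [A.Normal] (h : Ch n A ⊤) : Ch n (⊥ : Subgroup (G ⧸ A)) ⊤ :=
  ((h.map_ker (QuotientGroup.mk' A) (QuotientGroup.ker_mk' A).le).mono_left bot_le).mono_right le_top

theorem two_le_omega {a : ℕ} (h : 2 ∣ a) (h1 : 2 < a) : 2 ≤ Ω a := by
  by_contra h2
  have := eq_of_omega_le h (by omega) (by
    rw [ArithmeticFunction.cardFactors_apply_prime Nat.prime_two]; omega)
  omega

theorem ch_burnside [Finite G] {M : Subgroup G} {p a b : ℕ} (hp : p.Prime) (h : Nat.card M = 2 ^ a * p ^ b)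
    (h1 : M ≠ ⊤) : Ch (a + b + 1) (⊥ : Subgroup G) ⊤ :=
  (ch_of_dvd (Char.isSolvable_of_card_dvd Nat.prime_two hp M h.dvd) h.symm.dvd (by
    rw [ArithmeticFunction.cardFactors_mul (by simp) (by simp [hp.ne_zero]),
      ArithmeticFunction.cardFactors_apply_prime_pow Nat.prime_two,
      ArithmeticFunction.cardFactors_apply_prime_pow hp])).step h1.lt_top

theorem ch_center [Finite G] [Finite H] (φ : H →* G) (hφ : Function.Injective φ)
    (h1 : center G ≤ φ.range) (h2 : ¬ Group.IsSolvable H) (h3 : 8 ∣ (center H).index) {r : ℕ}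
    (h4 : Nat.card (center H) = r * Nat.card (center G)) : Ch (5 + Ω r) (center G) φ.range := by
  have h5 : (center G).comap φ ≤ center H := fun x hx => mem_center_iff.2 fun y => hφ (by
    rw [map_mul, map_mul, mem_center_iff.1 hx])
  have h6 : ((center G).comap φ).map φ = center G := map_comap_eq_self h1
  have h0 : Group.IsSolvable (center H) := Group.isSolvable_of_comm fun a b =>
    Subtype.ext (mem_center_iff.1 b.2 a)
  have h7 := ch_rel h5 (fun x hx => centralizer_le_normalizer _ (mem_centralizer_iff.2 fun y _ =>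
    mem_center_iff.1 hx y)) (Or.inl h0)
  have h8 := card_mul_relIndex h5
  rw [← card_map_of_injective hφ, h6, h4, mul_comm] at h8
  rw [Nat.eq_of_mul_eq_mul_right Nat.card_pos h8] at h7
  have h9 := (ch_rel_ns le_top le_normalizer_of_normal h0 fun e => h2
    (Group.isSolvable_of_surjective (f := (⊤ : Subgroup H).subtype) fun x => ⟨⟨x, trivial⟩, rfl⟩)).2
    (by rwa [relIndex_top_right])
  simpa [h6, MonoidHom.range_eq_map] using (h7.trans h9).map hφ

theorem eight_dvd {q : ℕ} (h : Odd q) : 8 ∣ q * ((q - 1) * (q + 1)) := by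
  obtain ⟨k, rfl⟩ := h
  obtain ⟨m, hm⟩ := Nat.even_mul_succ_self k
  exact Dvd.dvd.mul_left ⟨m, by simp only [Nat.add_sub_cancel]; nlinarith⟩ _

variable {F : Type*} [Field F] [Fintype F]

theorem ch_psl3 (h : Odd (Fintype.card F)) :
    Ch 8 (⊥ : Subgroup (ProjectiveSpecialLinearGroup (Fin 3) F)) ⊤ := by
  by_cases h3 : Fintype.card F = 3
  · obtain ⟨M, hM⟩ := (Agent.S2140.result h3 3 le_rfl (by simp)).2
    have h1 := M.card_mul_index
    rw [hM, Ngrp.card_psl33 F h3] at h1
    exact ch_burnside (M := M) (a := 4) (b := 3) Nat.prime_three (by omega) fun e => by simp [e] at hM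
  have h2 := Class.two_ne_zero_of_odd_card h
  have h4 : 1 < Fintype.card F := Fintype.one_lt_card
  rw [← Nat.card_eq_fintype_card] at h h3 h4
  have h5 := Class.card_center_SL (ι := Fin 3) (F := F) (by simp)
  obtain ⟨r, hr⟩ := Nat.gcd_dvd_right (Fintype.card (Fin 3)) (Nat.card F - 1)
  have h6 := Known.card_center_GL (ι := Fin 2) (F := F)
  have h7 := ch_center (gl2ToSL3 F) gl2ToSL3_injective
    (fun g hg => exists_gl2ToSL3_eq h2 (mem_center_iff.1 hg _).symm) (fun e => by
      have : Group.IsSolvable (SpecialLinearGroup (Fin 2) F) :=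
        Group.isSolvable_of_isSolvable_injective SpecialLinearGroup.toGL_injective
      exact Class.not_isSolvable_psl2 (F := F) (by obtain ⟨k, hk⟩ := h; omega) inferInstance) (by
      have := (center (GL (Fin 2) F)).card_mul_index
      rw [h6, Class.card_GL2, show ∀ a b c : ℕ, a * b ^ 2 * c = b * (a * (b * c)) from
        fun a b c => by ring] at this
      exact Nat.eq_of_mul_eq_mul_left (by omega) this ▸ eight_dvd h) (r := r) (by rw [h6, h5, mul_comm, ← hr])
  have h8 : 1 ≤ Ω r := by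
    refine (ArithmeticFunction.cardFactors_apply_prime Nat.prime_two).ge.trans (omega_le_of_dvd ?_ ?_)
    · refine Nat.Coprime.dvd_of_dvd_mul_left (m := Nat.gcd (Fintype.card (Fin 3)) (Nat.card F - 1)) ?_ ?_
      · exact Nat.Coprime.coprime_dvd_right (Nat.gcd_dvd_left _ _) (by decide)
      · obtain ⟨k, hk⟩ := h
        exact hr ▸ ⟨k, by omega⟩
    · rintro rfl
      omega
  let P : Subgroup (SpecialLinearGroup (Fin 3) F) :=
    { carrier := {g | g.1 0 2 = 0 ∧ g.1 1 2 = 0}
      mul_mem' := fun {a b} ha hb => by simp [mul_apply, Fin.sum_univ_three, ha.1, ha.2, hb.1, hb.2]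
      one_mem' := by simp
      inv_mem' := fun {a} ha => by
        simp [adjugate_fin_three, ha.1, ha.2] }
  refine (((h7.anti (show 6 ≤ _ by omega)).step (C := P) (SetLike.lt_iff_le_and_exists.2
    ⟨?_, ⟨!![1, 0, 0; 0, 1, 0; 1, 0, 1], by simp [det_fin_three]⟩, And.intro rfl rfl, ?_⟩)).step
    (lt_top_iff_ne_top.2 fun e => ?_)).quot
  · rintro - ⟨g, rfl⟩
    exact ⟨rfl, rfl⟩
  · rintro ⟨g, hg⟩
    simpa [coe_gl2ToSL3, blk3] using congrFun (congrFun (congrArg Subtype.val hg) 2) 0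
  · simpa using (e.ge (mem_top ⟨!![1, 0, 1; 0, 1, 0; 0, 0, 1], by simp [det_fin_three]⟩)).1

variable {q : ℕ}

theorem card_center_GU_two (hF : Fintype.card F = q ^ 2) :
    Nat.card (center (GU 2 F q)) = q + 1 := by
  obtain ⟨a, ha⟩ := Known.GL2.exists_unit_orderOf hF (n := q + 1) (Dvd.intro _ rfl)
  have h1 : IsPrimitiveRoot (a : F) (q + 1) := IsPrimitiveRoot.coe_units_iff.2 (ha ▸ IsPrimitiveRoot.orderOf a)
  have h2 : ∀ b : F, (((b • 1 : Matrix (Fin 2) (Fin 2) F)).map (Class.frobqEquiv hF))ᵀ * b • 1 =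
      b ^ (q + 1) • 1 := fun b => by
    ext i j
    fin_cases i <;> fin_cases j <;> simp [mul_apply, pow_succ, -Class.frobqEquiv_apply] <;> simp
  obtain ⟨g, hg⟩ := Known.GL2.exists_GU_two hF (m := (a : F) • 1) (by rw [h2, h1.pow_eq_one, one_smul])
  have h3 : ∀ n : ℕ, ((g ^ n : GU 2 F q) : GL (Fin 2) F).1 = (a : F) ^ n • 1 := fun n => by
    simp [hg, smul_pow]
  have h4 : center (GU 2 F q) = zpowers g := by
    refine le_antisymm (fun x hx => ?_) (zpowers_le.2 ((Class.Form.mem_center_GU_iff hF 2 le_rfl g).2 ⟨_, hg⟩))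
    obtain ⟨b, hb⟩ := (Class.Form.mem_center_GU_iff hF 2 le_rfl x).1 hx
    have h5 := (mem_GU_iff_mul' hF _).1 x.2
    rw [hb, h2] at h5
    obtain ⟨i, -, hi⟩ := h1.eq_pow_of_pow_eq_one (ξ := b) (by simpa using congrFun (congrFun h5 0) 0)
    exact ⟨i, Subtype.ext (Units.ext (by simp only [zpow_natCast]; rw [h3, hi, hb]))⟩
  rw [h4, Nat.card_zpowers, ← ha, orderOf_eq_orderOf_iff]
  refine fun n => ⟨fun e => Units.ext ?_, fun e => Subtype.ext (Units.ext ?_)⟩
  · simpa [e] using (congrFun (congrFun (h3 n) 0) 0).symm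
  · rw [h3, ← Units.val_pow_eq_pow_val, e]; simp

theorem ch_psu3 (hF : Fintype.card F = q ^ 2) (h : Odd q) :
    Ch 7 (⊥ : Subgroup (PSU 3 F q)) ⊤ ∧ (7 ≤ q → Ch 8 (⊥ : Subgroup (PSU 3 F q)) ⊤) := by
  have h2 := Known.GL2.two_ne_zero_of_card_sq hF h
  have h1 := Class.two_le_of_card_sq hF
  let φ : GU 2 F q →* SU 3 F q := ((gl2ToSL3 F).comp (GU 2 F q).subtype).codRestrict _
    fun g => (gl2ToSL3_mem_SU hF g).2 g.2
  have hφ : Function.Injective φ := fun a b e =>
    Subtype.ext (gl2ToSL3_injective (congrArg Subtype.val e))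
  have h3 : (-1 : GL (Fin 2) F) ∈ GU 2 F q := (mem_GU_iff_mul' hF _).2 (by
    ext i j; fin_cases i <;> fin_cases j <;> simp [mul_apply, -Class.frobqEquiv_apply])
  have h4 : center (SU 3 F q) ≤ φ.range := fun g hg => by
    obtain ⟨x, hx⟩ := exists_gl2ToSL3_eq h2 (g := g)
      (congrArg Subtype.val (mem_center_iff.1 hg (φ ⟨_, h3⟩)).symm)
    exact ⟨⟨x, (gl2ToSL3_mem_SU hF x).1 (hx ▸ g.2)⟩, Subtype.ext hx⟩
  have h5 := Class.Form.card_center_SU hF 3 (by norm_num)
  have h6 : φ.range < ⊤ := lt_top_iff_ne_top.2 fun e => by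
    have h6 : φ ⟨_, h3⟩ ∈ center (SU 3 F q) := mem_center_iff.2 fun y => by
      obtain ⟨x, rfl⟩ := e.ge (mem_top y)
      rw [← map_mul, ← map_mul]
      exact congrArg φ (Subtype.ext (by simp))
    have h7 := orderOf_dvd_natCard _ h6
    rw [orderOf_injective φ hφ, h5, orderOf_two_of_mul_self (Subtype.ext (by simp)) fun e => h2 (by
      have := congrFun (congrFun (congrArg (fun x : GU 2 F q => x.1.1) e) 0) 0
      simp at this
      linear_combination -this)] at h7
    simpa using h7.trans (Nat.gcd_dvd_left _ _)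
  have h7 := Known.GL2.card_GU_two hF
  by_cases h8 : q = 3
  · subst h8
    refine ⟨?_, fun e => by omega⟩
    have h9 : center (SU 3 F 3) = ⊥ := card_eq_one.1 h5
    exact ((ch_burnside (M := φ.range) (a := 5) (b := 1) Nat.prime_three (by
      rw [← Nat.card_congr (MonoidHom.ofInjective hφ).toEquiv, h7]; norm_num) h6.ne).mono_left h9.le).quot
  obtain ⟨r, hr⟩ := Nat.gcd_dvd_right 3 (q + 1)
  have h9 := card_center_GU_two hF
  obtain ⟨k, hk⟩ := id h
  have h10 := (ch_center φ hφ h4 (fun e => Ngrp.not_isSolvable_SU_two hF (by omega)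
    (Group.isSolvable_of_isSolvable_injective (Known.suIncl_injective (n := 2)))) (by
      have := (center (GU 2 F q)).card_mul_index
      rw [h9, h7, show ∀ a b c : ℕ, a * b ^ 2 * c = b * (a * (c * b)) from
        fun a b c => by ring] at this
      exact Nat.eq_of_mul_eq_mul_left (by omega) this ▸ eight_dvd h) (r := r)
      (by rw [h9, h5, mul_comm, ← hr])).step h6
  have h11 : 2 ∣ r := Nat.Coprime.dvd_of_dvd_mul_left (m := Nat.gcd 3 (q + 1))
    (Nat.Coprime.coprime_dvd_right (Nat.gcd_dvd_left _ _) (by decide)) (hr ▸ ⟨k + 1, by omega⟩)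
  have h12 : 1 ≤ Ω r := (ArithmeticFunction.cardFactors_apply_prime Nat.prime_two).ge.trans
    (omega_le_of_dvd h11 (by rintro rfl; omega))
  refine ⟨(h10.anti (by omega)).quot, fun e => (h10.anti ?_).quot⟩
  have := two_le_omega h11 (by nlinarith [Nat.gcd_le_left (q + 1) (show 0 < 3 by norm_num)])
  omega

end Cfsg.Lib.Len
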