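import Cfsg.Agent.Len.MxS4
import Cfsg.Agent.Len.Dih
import Cfsg.Agent.S2060

/-! Maximal subgroups isomorphic to `S₄ × 2`. -/

set_option autoImplicit false

namespace Cfsg.Lib.Len

open Subgroup Cfsg.Lib.Trans Cfsg.Lib.Local
open scoped commutatorElement

universe u

variable {G : Type*} [Group G]

theorem IsQD.congr {G' : Type*} [Group G'] (e : G ≃* G') (h : IsQuasiDihedral G) :
    IsQuasiDihedral G' := by
  obtain ⟨n, hn, hc, x, y, hx, hy, h1⟩ := h
  refine ⟨n, hn, by rw [← hc, Nat.card_congr e.toEquiv], e x, e y, by rw [e.orderOf_eq, hx],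
    by rw [e.orderOf_eq, hy], ?_⟩
  rw [← map_inv, ← map_mul, ← map_mul, h1, map_pow]

theorem exists_inv_of_dih {S D : Subgroup G} {n : ℕ} (e : S ≃* DihedralGroup n) (h : ¬ S ≤ D) :
    ∃ σ ∈ S, σ ∉ D ∧ σ * σ = 1 := by
  by_contra h1
  push Not at h1
  have h2 : ∀ i, ((e.symm (DihedralGroup.sr i) : S) : G) ∈ D := fun i => by
    by_contra h2
    refine h1 _ (e.symm (DihedralGroup.sr i)).2 h2 ?_
    rw [← coe_mul, ← map_mul, DihedralGroup.sr_mul_self, map_one, coe_one]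
  refine h fun x hx => ?_
  obtain ⟨y, hy⟩ := e.symm.surjective ⟨x, hx⟩
  have h3 : x = e.symm y := (congrArg Subtype.val hy).symm
  rcases y with i | i
  · rw [h3, show DihedralGroup.r i = DihedralGroup.sr 0 * DihedralGroup.sr i by simp, map_mul,
      coe_mul]
    exact mul_mem (h2 _) (h2 _)
  · exact h3 ▸ h2 i

theorem mem_of_M11 [Finite G] {N : Subgroup G} [N.Normal] (hC : centralizer (N : Set G) = ⊥)
    (h : Spor.IsoM11 N) (t : G) : t ∈ N := by
  obtain ⟨e⟩ := h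
  have h1 : Inn Spor.M11 = ⊤ := index_eq_one.1 Agent.S2060.result
  obtain ⟨m, hm⟩ : MulAut.congr e (MulAut.conjNormal t) ∈ Inn Spor.M11 := h1 ▸ mem_top _
  have h2 : ((e.symm m : N) : G)⁻¹ * t ∈ centralizer (N : Set G) := by
    refine mem_centralizer_iff.2 fun k hk => ?_
    have h3 := congrArg (fun f : MulAut Spor.M11 => ((e.symm (f (e ⟨k, hk⟩)) : N) : G)) hm
    simp only [MulAut.conj_apply, map_mul, map_inv, MulEquiv.symm_apply_apply, coe_mul, coe_inv,
      MulAut.congr_apply, MulEquiv.trans_apply, MulAut.conjNormal_apply] at h3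
    calc k * (((e.symm m : N) : G)⁻¹ * t) =
        ((e.symm m : N) : G)⁻¹ * (((e.symm m : N) : G) * k * ((e.symm m : N) : G)⁻¹) * t := by group
      _ = _ := by rw [h3]; group
  rw [hC, mem_bot, inv_mul_eq_one] at h2
  exact h2 ▸ (e.symm m).2

/-- The group `S₄ × 2`. -/
abbrev X42 := Equiv.Perm (Fin 4) × Multiplicative (ZMod 2)
/-- The central involution. -/
def tX : X42 := (1, Multiplicative.ofAdd 1)
/-- A double transposition. -/
def zX : X42 := (z4, 1)
/-- A second double transposition. -/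
def vX : X42 := (v4, 1)
/-- A transposition. -/
def wX : X42 := (w4, 1)
/-- Membership in the normal four-group. -/
abbrev PX (y : X42) : Prop := y = 1 ∨ y = zX ∨ y = vX ∨ y = zX * vX

theorem x_1 : ∀ y : X42, y * tX = tX * y := by decide +kernel
theorem x_2 : ∀ y : X42,
    (y * zX * y⁻¹ = zX ∨ y * zX * y⁻¹ = vX ∨ y * zX * y⁻¹ = zX * vX) ∧
    (y * vX * y⁻¹ = zX ∨ y * vX * y⁻¹ = vX ∨ y * vX * y⁻¹ = zX * vX) := by decide +kernel
theorem x_3 : ∀ y : X42, y * zX = zX * y → y * vX = vX * y → PX y ∨ PX (tX * y) := by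
  decide +kernel
theorem x_4 : ∀ y : X42, y * zX = zX * y → (y * y = 1 ∨ y * y = zX) ∧
    (y * vX * y⁻¹ = vX ∨ y * vX * y⁻¹ = zX * vX) := by decide +kernel
theorem x_5 : ∀ y : X42, y * zX = zX * y → y * vX = vX * y → y * wX = wX * y →
    y = 1 ∨ y = zX ∨ y = tX ∨ y = tX * zX := by decide +kernel
set_option synthInstance.maxSize 2000 in
theorem x_6 : ∀ y : X42, y * zX = zX * y → y * y = 1 → y * vX ≠ vX * y →
    (vX * y) ^ 2 = zX ∧ (y.1 = Equiv.swap 0 1 ∨ y.1 = Equiv.swap 2 3) ∧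
    y * vX = (vX * y)⁻¹ ∧ y * (zX * vX) = vX * y ∧ y * (zX * vX) ≠ zX * vX * y ∧
    ∀ x : X42, x * zX = zX * x → ∃ i : Fin 4, x = (vX * y) ^ (i : ℕ) ∨
      x = vX * (vX * y) ^ (i : ℕ) ∨ x = tX * (vX * y) ^ (i : ℕ) ∨
      x = tX * (vX * (vX * y) ^ (i : ℕ)) := by decide +kernel
theorem x_7 : ∀ x y : X42, x.1 = y.1 → x = y ∨ x * tX = y := by decide +kernel

theorem Mx.case_S42 {G : Type u} [Group G] [Finite G] {H : Subgroup G} (h : Mx H) (e : H ≃* X42)
    (hW : ∀ T, IsSylowIn 2 T H → ∃ g ∉ H, g ∈ normalizer (T : Set G)) :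
    ∃ N : Subgroup G, N.Normal ∧ N.index = 2 ∧ centralizer (N : Set G) = ⊥ ∧
      Nonempty (N ≃* Matrix.ProjectiveSpecialLinearGroup (Fin 3) (ZMod 3)) := by
  obtain ⟨f, hf, hH⟩ := exists_param e
  have h48 : Nat.card H = 48 := by
    rw [Nat.card_congr e.toEquiv, Nat.card_prod, card_S4]; simp
  have hfH : ∀ y, f y ∈ H := fun y => (hH _).2 ⟨y, rfl⟩
  have o2 : ∀ y : X42, y * y = 1 → y ≠ 1 → orderOf (f y) = 2 := fun y h1 h2 => by
    rw [orderOf_injective f hf]; exact orderOf_two_of_mul_self h1 h2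
  have hz : orderOf (f zX) = 2 := o2 _ (by decide) (by decide)
  have hv : orderOf (f vX) = 2 := o2 _ (by decide) (by decide)
  have ht : orderOf (f tX) = 2 := o2 _ (by decide) (by decide)
  have hzz := mul_self_of_orderOf_two hz
  have htt := mul_self_of_orderOf_two ht
  have cm : ∀ x y : X42, x * y = y * x → f x * f y = f y * f x := fun x y h1 => by
    rw [← map_mul, h1, map_mul]
  have hzv : f zX * f vX = f vX * f zX := cm _ _ (by decide)
  have hvz : f vX ≠ f zX := fun h1 => absurd (hf h1) (by decide)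
  have htc : ∀ g ∈ H, g * f tX = f tX * g := fun g hg => by
    obtain ⟨y, rfl⟩ := (hH g).1 hg
    exact cm _ _ (x_1 y)
  have hCt : ∀ g, g * f tX = f tX * g → g ∈ H := fun g hg =>
    h.cent_le (ne_one_of_orderOf_two ht) (hfH _)
      (fun g hg => by rw [htc g hg, mul_inv_cancel_right]; exact mem_zpowers _) hg
  have hn : H ≤ normalizer ((closure {f zX, f vX} : Subgroup G) : Set G) := fun g hg => by
    obtain ⟨y, rfl⟩ := (hH g).1 hg
    refine mem_norm_pair (mem_pair_of_four ?_) (mem_pair_of_four ?_) <;>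
      simp only [← map_inv, ← map_mul, hf.eq_iff]
    exacts [(x_2 y).1, (x_2 y).2]
  have hV0 : closure {f zX, f vX} ≠ ⊥ := fun h0 => ne_one_of_orderOf_two hz
      (mem_bot.1 (h0 ▸ mem_pair_of_four (Or.inl rfl)))
  have hVH : closure {f zX, f vX} ≤ H := by rw [closure_le]; rintro _ (rfl | rfl) <;> exact hfH _
  have hCV : ∀ g, g * f zX = f zX * g → g * f vX = f vX * g → ∃ y, f y = g ∧
      (PX y ∨ PX (tX * y)) := fun g h1 h2 => by
    have : g ∈ H := by
      rw [← h.norm_eq hV0 hVH hn]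
      exact mem_norm_pair (mem_pair_of_four (Or.inl (by rw [h1]; simp)))
        (mem_pair_of_four (Or.inr (Or.inl (by rw [h2]; simp))))
    obtain ⟨y, rfl⟩ := (hH g).1 this
    exact ⟨y, rfl, x_3 y (hf (by simpa using h1)) (hf (by simpa using h2))⟩
  have hPV : ∀ y, PX y → f y ∈ closure {f zX, f vX} := fun y hy => by
    rcases hy with rfl | rfl | rfl | rfl
    · rw [map_one]; exact one_mem _
    all_goals exact mem_pair_of_four (by simp)
  have hA : ∀ g, g * f zX * g⁻¹ ∈ closure {f zX, f vX} ⊔ zpowers (f tX) →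
      g * f vX * g⁻¹ ∈ closure {f zX, f vX} ⊔ zpowers (f tX) →
      g * f tX * g⁻¹ ∈ closure {f zX, f vX} ⊔ zpowers (f tX) →
      g ∈ normalizer ((closure {f zX, f vX} ⊔ zpowers (f tX) : Subgroup G) : Set G) :=
    fun g h1 h2 h3 => by
      refine mem_normalizer_of_cj_le ?_
      rw [cj_sup, cj_zpowers, cj_closure, Set.image_pair, sup_le_iff, closure_le, zpowers_le]
      exact ⟨by rintro _ (rfl | rfl); exacts [h1, h2], h3⟩
  have hzV : f zX ∈ closure {f zX, f vX} := hPV _ (by simp [PX])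
  have hvV : f vX ∈ closure {f zX, f vX} := hPV _ (by simp [PX])
  have hNA := h.norm_eq (X := closure {f zX, f vX} ⊔ zpowers (f tX))
    (fun h0 => hV0 (eq_bot_iff.2 (h0 ▸ le_sup_left))) (sup_le hVH (zpowers_le.2 (hfH _)))
    fun g hg => hA g (mem_sup_left ((mem_normalizer_iff.1 (hn hg) _).1 hzV))
      (mem_sup_left ((mem_normalizer_iff.1 (hn hg) _).1 hvV))
      (by rw [htc g hg, mul_inv_cancel_right]; exact mem_sup_right (mem_zpowers _))
  set T := H ⊓ centralizer {f zX} with hT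
  have hTm : ∀ g, g ∈ T ↔ ∃ y, y * zX = zX * y ∧ f y = g := fun g =>
    ⟨fun hg => by
      obtain ⟨y, rfl⟩ := (hH g).1 hg.1
      exact ⟨y, hf (by simpa using mem_C1.1 hg.2), rfl⟩,
    fun ⟨y, hy, h1⟩ => h1 ▸ ⟨hfH y, mem_C1.2 (cm _ _ hy)⟩⟩
  have h16 : Nat.card T = 16 := (card_of_param hf _ hTm).trans (by decide +kernel)
  have hT2 : IsPGroup 2 T := IsPGroup.of_card (n := 4) h16
  have hTH : IsSylowIn 2 T H := ⟨inf_le_left, hT2, by
    have := card_mul_relIndex (show T ≤ H from inf_le_left)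
    rw [h16, h48] at this
    omega⟩
  have hTs : IsSylowIn 2 T (centralizer {f tX}) := by
    rwa [show centralizer {f tX} = H from
      le_antisymm (fun g hg => hCt g (mem_C1.1 hg)) fun g hg => mem_C1.2 (htc g hg)]
  obtain ⟨g, hgH, hgN⟩ := hW T hTH
  have hfT : ∀ y, y * zX = zX * y → f y ∈ T := fun y hy => (hTm _).2 ⟨y, hy, rfl⟩
  have hgT : ∀ y, y * zX = zX * y → ∃ y', y' * zX = zX * y' ∧ f y' = g * f y * g⁻¹ := fun y hy =>
    (hTm _).1 ((mem_normalizer_iff.1 hgN _).1 (hfT y hy))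
  have hne : ∀ y y', y ≠ y' → g * f y * g⁻¹ ≠ g * f y' * g⁻¹ := fun y y' h1 h2 =>
    h1 (hf (by simpa using h2))
  have hgz : g * f zX * g⁻¹ = f zX := by
    obtain ⟨y, hy, h1⟩ := hgT (vX * wX) (by decide)
    have h2 : f (y * y) = g * f zX * g⁻¹ := by
      rw [map_mul, h1, show zX = vX * wX * (vX * wX) by decide, map_mul f (vX * wX)]; group
    rcases (x_4 y hy).1 with h3 | h3 <;> rw [h3] at h2
    · exact absurd (by simpa using h2.symm) (hne zX 1 (by decide))
    · exact h2.symm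
  have hgt : g * f tX * g⁻¹ = f tX * f zX := by
    obtain ⟨y, hy, h1⟩ := hgT tX (by decide)
    have h2 : ∀ x, x * zX = zX * x → y * x = x * y := fun x hx => hf (by
      have h3 : g⁻¹ * f x * g ∈ T := by
        simpa using (mem_normalizer_iff.1 (inv_mem hgN) _).1 (hfT x hx)
      rw [map_mul, map_mul, h1]
      calc _ = g * (f tX * (g⁻¹ * f x * g)) * g⁻¹ := by group
        _ = _ := by rw [← htc _ h3.1]; group)
    rcases x_5 y hy (h2 _ (by decide)) (h2 _ (by decide)) with rfl | rfl | rfl | rfl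
    · exact absurd (by simpa using h1.symm) (hne tX 1 (by decide))
    · exact absurd (h1.symm.trans hgz.symm) (hne tX zX (by decide))
    · exact absurd (hCt g (mul_inv_eq_iff_eq_mul.1 h1.symm)) hgH
    · rw [← h1, map_mul]
  have hg2 : g * g ∈ T := by
    refine ⟨hCt _ (mul_inv_eq_iff_eq_mul.1 ?_), mem_C1.2 (mul_inv_eq_iff_eq_mul.1 ?_)⟩
    · calc _ = g * (g * f tX * g⁻¹) * g⁻¹ := by group
        _ = g * (f tX * f zX) * g⁻¹ := by rw [hgt]
        _ = g * f tX * g⁻¹ * (g * f zX * g⁻¹) := by group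
        _ = _ := by rw [hgt, hgz, mul_assoc, hzz, mul_one]
    · calc _ = g * (g * f zX * g⁻¹) * g⁻¹ := by group
        _ = _ := by rw [hgz, hgz]
  obtain ⟨y, hy, hgv⟩ := hgT vX (by decide)
  have hyy : y * y = 1 := hf (by
    rw [map_mul, hgv, map_one]
    calc _ = g * (f vX * f vX) * g⁻¹ := by group
      _ = 1 := by rw [mul_self_of_orderOf_two hv]; simp)
  have hyv : y * vX ≠ vX * y := fun h1 => hgH (by
    rw [← hNA]
    refine hA g (by rw [hgz]; exact mem_sup_left hzV) ?_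
      (by rw [hgt]; exact mul_mem (mem_sup_right (mem_zpowers _)) (mem_sup_left hzV))
    rw [← hgv]
    rcases x_3 y hy h1 with h2 | h2
    · exact mem_sup_left (hPV _ h2)
    · have := mul_mem (mem_sup_right (mem_zpowers (f tX)))
        (mem_sup_left (T := zpowers (f tX)) (hPV _ h2))
      rwa [map_mul, ← mul_assoc, htt, one_mul] at this)
  obtain ⟨y1, y2, y3, y4, y5, y6⟩ := x_6 y hy hyy hyv
  have hc2 : f (vX * y) ^ (2 ^ (0 + 1) : ℤ) = f zX := by
    rw [← y1, map_pow, ← zpow_natCast]; rfl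
  have hc2' : f (vX * y) ^ 2 = f zX := by rw [← y1, map_pow]
  have hD := exists_dh (c := f (vX * y)) (b := f vX) (k := 0)
    (orderOf_eq_prime_pow (by rw [pow_one, hc2']; exact ne_one_of_orderOf_two hz)
      (by rw [show 2 ^ (1 + 1) = 2 * 2 from rfl, pow_mul, hc2', sq, hzz]))
    (mul_self_of_orderOf_two hv) (by
      rw [← map_inv, ← map_inv, ← map_mul, ← map_mul, ← y3, ← mul_assoc,
        show vX * vX = 1 by decide, show vX⁻¹ = vX by decide, one_mul])
    (fun h1 => by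
      obtain ⟨i, hi⟩ := mem_zpowers_iff.1 h1
      have h2 : f vX * f (vX * y) = f (vX * y) * f vX := by
        rw [← hi]; exact (Commute.self_zpow _ i).symm
      exact hyv (mul_left_cancel (a := vX) (by rw [← mul_assoc]; exact (hf (by simpa using h2)).symm)))
  set D := zpowers (f (vX * y)) ⊔ zpowers (f vX) with hDd
  have hvv : vX * vX = 1 := by decide
  have hcT : f (vX * y) ∈ T := by rw [map_mul]; exact mul_mem (hfT _ (by decide)) (hfT _ hy)
  have L : LD D T (f (vX * y)) (f vX) (f tX) g 0 := by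
    refine ⟨hD, ht, (htc _ (hfH _)).symm, (htc _ (hfH _)).symm, fun x => ⟨fun hx => ?_, ?_⟩, ?_,
      by rw [hgt, hc2], hg2⟩
    · obtain ⟨x, hx', rfl⟩ := (hTm x).1 hx
      obtain ⟨i, rfl | rfl | rfl | rfl⟩ := y6 x hx'
      · exact ⟨_, hD.cD (i : ℕ), Or.inl (by simp)⟩
      · exact ⟨_, hD.rD (i : ℕ), Or.inl (by simp)⟩
      · exact ⟨_, hD.cD (i : ℕ), Or.inr (by simp)⟩
      · exact ⟨_, hD.rD (i : ℕ), Or.inr (by simp)⟩
    · have h1 : D ≤ T := sup_le (zpowers_le.2 hcT) (zpowers_le.2 (hfT _ (by decide)))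
      rintro ⟨d, hd, rfl | rfl⟩
      exacts [h1 hd, mul_mem (hfT _ (by decide)) (h1 hd)]
    · obtain ⟨x, hx, h1⟩ := (hTm _).1 hg2
      have h2 : g * f y * g⁻¹ = f (x * vX * x⁻¹) := by
        rw [hgv, map_mul, map_mul, map_inv, h1]; group
      have h3 : g * f (vX * y) * g⁻¹ = f (y * (x * vX * x⁻¹)) := by
        rw [map_mul f y, ← h2, map_mul]; nth_rewrite 2 [hgv]; group
      have h4 : g * f vX * g⁻¹ = f vX * f (vX * y) ^ (1 : ℤ) := by
        rw [zpow_one, ← map_mul, ← mul_assoc, hvv, one_mul, hgv]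
      rcases (x_4 x hx).2 with h5 | h5 <;> rw [h5] at h3
      · exact ⟨-1, 1, by simp, odd_one, by rw [h3, y3]; simp, h4⟩
      · exact ⟨1, 1, odd_one, odd_one, by rw [h3, y4]; simp, h4⟩
  have hvzc : IsConj (f zX) (f vX) := isConj_iff.2 ⟨f (Equiv.swap 1 2, 1), by
    rw [← map_inv, ← map_mul, ← map_mul]; congr 1; decide⟩
  have hb : IsConj (f vX) (f (vX * y) ^ (2 ^ (0 + 1) : ℤ)) := hc2 ▸ hvzc.symm
  have hU := L.sylow hTs hb
  have htN := L.not_mem hTs hb
  set U := T ⊔ zpowers g with hUd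
  set N := commutator G ⊔ pResidual 2 G with hNd
  have hNn : N.Normal := inferInstance
  have hTU : T ≤ U := le_sup_left
  have hzU : ∀ u ∈ U, u * f zX = f zX * u := fun u hu => hc2 ▸ L.z_commU hu
  have hyD : f y ∈ D := by
    have := mul_mem hD.bD hD.c1D
    rwa [← map_mul, ← mul_assoc, hvv, one_mul] at this
  have hvy : ∀ M : Subgroup G, M.Normal → f zX ∈ M → f vX ∈ M ∧ f y ∈ M := fun M hM h1 => by
    obtain ⟨a, ha⟩ := isConj_iff.1 hvzc
    have h2 : f vX ∈ M := ha ▸ hM.conj_mem _ h1 a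
    exact ⟨h2, hgv ▸ hM.conj_mem _ h2 g⟩
  have key : ∀ M : Subgroup G, M.Normal → f zX ∈ M → ∀ x, x ∈ M ∨ x * f tX ∈ M := by
    intro M hM h1 x
    have h0 : M ≠ ⊥ := fun h0 => ne_one_of_orderOf_two hz (mem_bot.1 (h0 ▸ h1))
    have h2 : (M.comap f).map (MonoidHom.fst _ _) = ⊤ := by
      have h3 := (hM.comap f).map (MonoidHom.fst _ _) Prod.fst_surjective
      have h4 : y.1 ∈ (M.comap f).map (MonoidHom.fst _ _) := ⟨y, (hvy M hM h1).2, rfl⟩
      rcases y2 with h5 | h5 <;> exact eq_top_of_swap h3 (by decide) (h5 ▸ h4)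
    obtain ⟨a, ha, m, hm, rfl⟩ := mem_sup_of_normal_right.1 (h.sup_eq hM h0 ▸ mem_top x)
    obtain ⟨a, rfl⟩ := (hH a).1 ha
    obtain ⟨a', h3, h4⟩ : a.1 ∈ (M.comap f).map (MonoidHom.fst _ _) := h2 ▸ mem_top _
    rcases x_7 a a' h4.symm with rfl | rfl
    · exact Or.inl (mul_mem h3 hm)
    · refine Or.inr ?_
      have : f a * m * f tX = f (a * tX) * ((f tX)⁻¹ * m * (f tX)⁻¹⁻¹) := by rw [map_mul]; group
      rw [this]
      exact mul_mem h3 (hM.conj_mem _ hm _)
  have hzD : f zX ∈ D := hc2 ▸ hD.cD _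
  have hcen : ∀ P M : Subgroup G, IsPGroup 2 P → D ≤ P → P ⊓ M ≠ ⊥ →
      (∀ s ∈ P, ∀ x ∈ M, s * x * s⁻¹ ∈ M) → f zX ∈ M ∨
        ∃ x ∈ M, (x = f tX ∨ x = f tX * f zX) ∧ ∀ s ∈ P, s * x = x * s := by
    intro P M hP hDP h0 h1
    obtain ⟨x, hx, hx2, hxc⟩ := Fus.Grp.exists_central_invol hP (T := P ⊓ M) inf_le_left h0
      (fun s hs x hx => ⟨P.mul_mem (P.mul_mem hs hx.1) (P.inv_mem hs), h1 s hs x hx.2⟩)
    obtain ⟨a, rfl, ha⟩ := hCV x (hxc _ (hDP hzD)).symm (hxc _ (hDP hD.bD)).symm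
    have h3 : y * a = a * y := hf (by simpa using hxc _ (hDP hyD))
    rcases ha with ha | ha
    · rcases ha with rfl | rfl | rfl | rfl
      · simp at hx2
      · exact Or.inl hx.2
      · exact absurd h3 hyv
      · exact absurd h3 y5
    · have h4 : y * (tX * a) = tX * a * y := by rw [← mul_assoc, x_1, mul_assoc, h3, mul_assoc]
      have h5 : a = tX * (tX * a) := by rw [← mul_assoc, show tX * tX = 1 by decide, one_mul]
      rcases ha with ha | ha | ha | ha <;> rw [ha] at h4 h5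
      · exact Or.inr ⟨_, hx.2, Or.inl (by rw [h5, mul_one]), hxc⟩
      · exact Or.inr ⟨_, hx.2, Or.inr (by rw [h5, map_mul]), hxc⟩
      · exact absurd h4 hyv
      · exact absurd h4 y5
  have hN0 : N ≠ ⊥ := fun h0 => h.ns (Group.isSolvable_of_comm fun a b => by
    have : ⁅a, b⁆ ∈ N := mem_sup_left (commutator_mem_commutator (mem_top a) (mem_top b))
    rw [h0, mem_bot, commutatorElement_eq_one_iff_mul_comm] at this
    exact this)
  have hUN : IsSylowIn 2 (U ⊓ N) N := hU.inf_normal_of_le (by rw [normalizer_eq_top]) le_top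
  have hzN : f zX ∈ N := by
    refine (hcen U N hU.isPGroup (L.DT.trans hTU) (fun h1 => h.not_solv hNn hN0
      (isSolvable_of_isSylowIn_cyclic hUN (by rw [h1]; infer_instance)))
      fun s _ x hx => hNn.conj_mem x hx s).resolve_right ?_
    rintro ⟨x, -, rfl | rfl, h1⟩
    · exact L.nc_t L.sU L.snT (h1 g L.sU)
    · refine L.nc_t L.sU L.snT (mul_right_cancel (b := f zX) ?_)
      rw [mul_assoc, h1 g L.sU, mul_assoc, mul_assoc, hzU g L.sU]
  have hDN : D ≤ N := by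
    refine sup_le (zpowers_le.2 ?_) (zpowers_le.2 (hvy N hNn hzN).1)
    rw [map_mul]; exact mul_mem (hvy N hNn hzN).1 (hvy N hNn hzN).2
  have hidx : N.index = 2 := index_eq_two_iff.2 ⟨f tX, fun b => by
    rcases key N hNn hzN b with h1 | h1
    · exact Or.inr ⟨h1, fun h2 => htN ((N.mul_mem_cancel_left h1).1 h2)⟩
    · exact Or.inl ⟨h1, fun h2 => htN ((N.mul_mem_cancel_left h2).1 h1)⟩⟩
  have hO : oddCore N = ⊥ := Solv.pPrimeCore_eq_bot_of_isSubnormal hNn.isSubnormal h.oddCore_eq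
  have : Nontrivial N := (nontrivial_iff_ne_bot N).2 hN0
  have : IsSimpleGroup N := ⟨fun M hM => or_iff_not_imp_left.2 fun h0 => by
    have hMN : M.map N.subtype ≤ N := map_subtype_le M
    have hMc : ∀ s ∈ N, ∀ x ∈ M.map N.subtype, s * x * s⁻¹ ∈ M.map N.subtype := by
      rintro s hs _ ⟨x, hx, rfl⟩
      exact ⟨_, hM.conj_mem x hx ⟨s, hs⟩, rfl⟩
    have h1 : f zX ∈ M.map N.subtype := by
      refine (hcen (U ⊓ N) _ hUN.isPGroup (le_inf (L.DT.trans hTU) hDN) (fun h1 => h0 ?_)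
        fun s hs => hMc s hs.2).resolve_right ?_
      · have h2 := (hUN.inf_normal_of_le (fun s hs => mem_normalizer_of_cj_le
          (cj_le_iff.2 (hMc s hs))) hMN).eq_bot_iff.1 h1
        rw [card_map_of_injective N.subtype_injective] at h2
        refine eq_bot_iff.2 (hO ▸ Solv.le_pPrimeCore hM ?_)
        exact ((Nat.Prime.coprime_iff_not_dvd Nat.prime_two).2 h2).symm
      · rintro ⟨x, hx, rfl | rfl, -⟩
        · exact htN (hMN hx)
        · exact htN ((N.mul_mem_cancel_right hzN).1 (hMN hx))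
    have h2 : f zX ∈ (M.map N.subtype).normalCore := fun b => by
      rcases key N hNn hzN b with h3 | h3
      · exact hMc _ h3 _ h1
      · have := hMc _ h3 _ h1
        rwa [mul_assoc b, cm tX zX (by decide), ← mul_assoc, mul_inv_rev, ← mul_assoc,
          mul_inv_cancel_right] at this
    refine eq_top_iff.2 fun x _ => ?_
    rcases key _ inferInstance h2 x with h3 | h3
    · obtain ⟨x', h4, h5⟩ := normalCore_le _ h3
      exact (Subtype.ext h5 : x' = x) ▸ h4
    · exact absurd ((N.mul_mem_cancel_left x.2).1 (hMN (normalCore_le _ h3))) htN⟩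
  have hG : ¬ IsMulCommutative N := fun hc =>
    h.not_solv hNn hN0 (Group.isSolvable_of_comm fun a b => hc.is_comm.comm a b)
  have hC0 : centralizer (N : Set G) = ⊥ := h.cent_eq_bot hidx
    ((IsSimpleGroup.eq_bot_or_eq_top_of_normal _ inferInstance).resolve_right fun h1 =>
      hG ⟨⟨fun a b => mem_center_iff.1 (h1 ▸ mem_top b) a⟩⟩)
  have hvN := hDN hD.bD
  have hCN : ∀ x ∈ N, x * f zX = f zX * x → x * f vX = f vX * x →
      x = 1 ∨ x = f zX ∨ x = f vX ∨ x = f zX * f vX := fun x hx h1 h2 => by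
    obtain ⟨a, rfl, ha | ha⟩ := hCV x h1 h2
    · simpa only [← map_one f, ← map_mul, hf.eq_iff] using ha
    · refine absurd ((N.mul_mem_cancel_right hx).1 ?_) htN
      rw [← map_mul]
      exact (show closure {f zX, f vX} ≤ N by
        rw [closure_le]; rintro _ (rfl | rfl); exacts [hzN, hvN]) (hPV _ ha)
  have hDU : D ≤ U ⊓ N := le_inf (L.DT.trans hTU) hDN
  have hC : Nat.card ↥(U ⊓ N ⊓ centralizer ({f vX} : Set G)) = 4 := by
    refine le_antisymm (card_le_four fun x hx => hCN x hx.1.2 (hzU x hx.1.1) (mem_C1.1 hx.2))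
      (four_le_card ⟨hDU hzD, mem_C1.2 hzv⟩ ⟨hDU hD.bD, mem_C1.2 rfl⟩ (ne_one_of_orderOf_two hz)
        (ne_one_of_orderOf_two hv) hvz ?_)
    rw [← map_mul]; exact ne_one_of_orderOf_two (o2 _ (by decide) (by decide))
  have eS : (hUN.toSylow : Subgroup N) ≃* ↥(U ⊓ N) := subgroupOfEquivOfLe inf_le_right
  have hTN : ∀ x ∈ T, x ∈ N → x ∈ D := fun x hx h1 => by
    obtain ⟨d, hd, rfl | rfl⟩ := (L.memT x).1 hx
    exacts [hd, absurd ((N.mul_mem_cancel_right (hDN hd)).1 h1) htN]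
  refine ⟨N, hNn, hidx, hC0, ?_⟩
  rcases dih_or_qd hUN.isPGroup (hDU hD.bD) hv hC (fun h1 => hyv (hf (by
    have h2 : U ⊓ N ⊓ centralizer ({f vX} : Set G) = U ⊓ N :=
      eq_of_le_of_card_ge inf_le_left (by omega)
    simpa using mem_C1.1 (h2.ge (hDU hyD)).2))) with
    ⟨n, ⟨φ⟩⟩ | hq
  · exfalso
    obtain ⟨σ, hσ, hσD, h2⟩ := exists_inv_of_dih φ (D := D) fun h1 => by
      rcases key N hNn hzN g with h3 | h3
      · exact L.snT (L.DT (h1 ⟨L.sU, h3⟩))
      · exact L.snT ((T.mul_mem_cancel_right L.tT).1 (L.DT (h1 ⟨mul_mem L.sU (hTU L.tT), h3⟩)))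
    have hσT : σ ∉ T := fun h1 => hσD (hTN σ h1 hσ.2)
    have hσ2 : orderOf σ = 2 := orderOf_two_of_mul_self h2 fun h1 => hσT (h1 ▸ one_mem T)
    obtain ⟨a, ha⟩ := exists_idx_of_dih_or_qd (Or.inl ⟨n, ⟨eS.trans φ⟩⟩)
    have hi : IdxLeTwo (zpowers (a : N)) hUN.toSylow := by
      have hm : ∀ s : (hUN.toSylow : Subgroup N), s ∈ zpowers a ↔ (s : N) ∈ zpowers (a : N) :=
        fun s => by simp only [mem_zpowers_iff, Subtype.ext_iff, coe_zpow]
      intro s hs t ht h1 h2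
      exact (hm (⟨s, hs⟩ * ⟨t, ht⟩)).1 (idx_top_of_card ha _ trivial _ trivial
        (fun h => h1 ((hm _).1 h)) (fun h => h2 ((hm _).1 h)))
    obtain ⟨w, -, -, -, hw⟩ := one_class_of_cyclic_idx (index_ne_two_of_simple hG) hUN.toSylow a.2 hi
      (x := ⟨_, hzN⟩) ((orderOf_coe _).symm.trans hz)
    have hj : IsConj σ (f zX) := N.subtype.map_isConj
      ((hw ⟨σ, hσ.2⟩ ((orderOf_coe _).symm.trans hσ2)).trans
        (hw ⟨_, hzN⟩ ((orderOf_coe _).symm.trans hz)).symm)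
    have htcT : f tX * f (vX * y) ∈ T := mul_mem L.tT hcT
    obtain ⟨⟨m, j, -, hj', h3⟩, h4⟩ := L.sw hσ.1 hσT
    have h5 : Commute (f tX * f (vX * y)) σ := by
      have h6 := hD.inverts h3 hj' h2 1
      refine (mul_inv_eq_iff_eq_mul.1 ?_).symm
      calc σ * (f tX * f (vX * y)) * σ⁻¹ = σ * f tX * σ⁻¹ * (σ * f (vX * y) * σ⁻¹) := by group
        _ = _ := by
          rw [h4, h3.1, ← mul_one m, h6, mul_assoc, ← zpow_add]; simp
    obtain ⟨n, hn1, hn2⟩ := exists_extremal_conj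
      (hU.mono (fun u hu => mem_C1.2 (hzU u hu)) le_top) hj
      (hT2.to_le (zpowers_le.2 htcT)) (fun r hr => by
        obtain ⟨k, rfl⟩ := mem_zpowers_iff.1 hr
        exact h5.zpow_left k)
    have h6 := L.sq_mem hσ.1 hσT h2 (hn2 _ (mem_zpowers _))
    have h7 : n * (f tX * f (vX * y)) * n⁻¹ * (n * (f tX * f (vX * y)) * n⁻¹) = n * f zX * n⁻¹ := by
      rw [← hc2', sq, ← L.tdd hD.c1D]; group
    rw [h7] at h6
    have h8 := GW.eq_of_mem_zpowers h6 (hc2 ▸ zpow_mem (mem_zpowers _) _)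
      (((MulAut.conj n).orderOf_eq _).trans hz) hz
    have h9 : σ = f zX := by simpa using hn1.trans h8.symm
    exact hσD (h9 ▸ hzD)
  · refine (qd_cases hG hUN.toSylow (IsQD.congr eS.symm hq) (v := ⟨_, hvN⟩) (z := ⟨_, hzN⟩)
      ((orderOf_coe _).symm.trans hv) ((orderOf_coe _).symm.trans hz)
      (fun h1 => hvz (congrArg Subtype.val h1)) (Subtype.ext hzv.symm)
      (card_le_four (z := ⟨_, hzN⟩) (e := ⟨_, hvN⟩) fun x hx => ?_)).resolve_right fun h1 => htN (mem_of_M11 hC0 h1 _)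
    have := hCN x x.2 (congrArg Subtype.val (mem_C1.1 hx.1)) (congrArg Subtype.val (mem_C1.1 hx.2))
    simpa only [Subtype.ext_iff, coe_one, coe_mul] using this

end Cfsg.Lib.Len
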